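import Cfsg.Agent.H199.AbMon
import Cfsg.Agent.H546.MFiveFull
import Cfsg.Agent.H546.RadSeven
import Cfsg.Agent.BpSpor.BFiveZero
import Cfsg.Agent.H55.CoOneBd

/-!
# The Monster: the order of the centralizer of an element of order 5 of fixed rank 0 (helper58)

`card_dvd` : `|C(x)|` divides `5 ^ 7 · 604800 · 2` (`5B`: `5 ^ (1 + 6) : 2 J₂`).

`C(x) = N C(x, z)`. The Sylow `r`-subgroup `R` of `N`, `r ≠ 5`, is central in `N` and inverted by `z`, `5 ^ 7 ∣ |N|`.
* `r = 3`: an element `s` of `R` of order 3 commutes with an involution, and `5 ^ 4 ∤ |C(s)|`;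
* `r = 7`: `|R| ≤ 7 ^ 3`, and `5 ∤ 7 ^ i - 1`, `i ≤ 3`.
-/

set_option autoImplicit false
set_option maxRecDepth 100000

namespace Cfsg.Agent.H58.MonFiveB

open Cfsg Cfsg.Agent.MonsterX Cfsg.Agent.MonsterX.InstData Cfsg.Agent.MonsterX.MainPack Cfsg.Agent.MonsterU
open Cfsg.Agent.MonsterP Cfsg.Agent.MonsterN Cfsg.Agent.LThreeMB
open Cfsg.Agent.MonsterX.MainBasic Cfsg.Agent.MonsterX.MainSimple Cfsg.Agent.MonsterX.Model
open Cfsg.Agent.MonsterU.Lam2 Cfsg.Agent.MonsterU.TwoCls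
open Cfsg.Agent.BpSpor.MBigModel Cfsg.Agent.H199.NSmMon
open Cfsg.Agent.H498.Ab Cfsg.Agent.H199.AbTool Cfsg.Agent.H199.AbRad
open Cfsg.Spor (Co1)
open Subgroup (centralizer zpowers mem_centralizer_singleton_iff)

/-! ### Abelian groups with two commuting involutions -/

section abs

variable {D : Type*} [Group D]

/-- `z` inverts `R`; an element of order `r` of `R` commutes with `u` or `u z` -/
theorem exists_s [Finite D] {R : Subgroup D} (hRn : R.Normal) {r : ℕ} (hr : r.Prime)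
    (hab : ∀ a ∈ R, ∀ b ∈ R, a * b = b * a) {z u : D} (huu : u * u = 1)
    (hinv : ∀ m ∈ R, z * m * z⁻¹ = m⁻¹) (hd : r ∣ Nat.card ↥R) :
    ∃ s ∈ R, orderOf s = r ∧ (u * s = s * u ∨ (u * z) * s = s * (u * z)) := by
  have : Fact r.Prime := ⟨hr⟩
  obtain ⟨⟨s, hs⟩, hso⟩ := exists_prime_orderOf_dvd_card' r hd
  rw [Subgroup.orderOf_mk] at hso
  have hui : u⁻¹ = u := inv_eq_of_mul_eq_one_left huu
  have hsu : u * s * u⁻¹ ∈ R := hRn.conj_mem s hs u
  by_cases h1 : s * (u * s * u⁻¹) = 1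
  · refine ⟨s, hs, hso, Or.inr ?_⟩
    have h2 : u * s * u⁻¹ = s⁻¹ := (inv_eq_of_mul_eq_one_right h1).symm
    have h3 : u * s⁻¹ * u⁻¹ = s := by
      have h4 : (u * s * u⁻¹)⁻¹ = s := by rw [h2, inv_inv]
      calc u * s⁻¹ * u⁻¹ = (u * s * u⁻¹)⁻¹ := by group
        _ = s := h4
    calc u * z * s = u * (z * s * z⁻¹) * u⁻¹ * (u * z) := by group
      _ = (u * s⁻¹ * u⁻¹) * (u * z) := by rw [hinv s hs]
      _ = s * (u * z) := by rw [h3]
  · refine ⟨s * (u * s * u⁻¹), R.mul_mem hs hsu, ?_, Or.inl ?_⟩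
    · refine orderOf_eq_prime ?_ h1
      have hc : Commute s (u * s * u⁻¹) := hab _ hs _ hsu
      rw [hc.mul_pow, conj_pow, ← hso, pow_orderOf_eq_one, mul_one, mul_inv_cancel, one_mul]
    · calc u * (s * (u * s * u⁻¹)) = (u * s * u⁻¹) * (u * u * s) * u⁻¹ := by group
        _ = (u * s * u⁻¹) * s * u⁻¹ := by rw [huu, one_mul]
        _ = s * (u * s * u⁻¹) * u⁻¹ := by rw [hab _ hsu _ hs]
        _ = s * (u * s * u⁻¹) * u := by rw [hui]

/-- `|R|` divides `|C_R(u)| |C_R(u z)|` -/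
theorem card_dvd_mul [Finite D] {R : Subgroup D} (hRn : R.Normal)
    (hab : ∀ a ∈ R, ∀ b ∈ R, a * b = b * a) {z u : D} (huu : u * u = 1)
    (hinv : ∀ m ∈ R, z * m * z⁻¹ = m⁻¹) :
    Nat.card ↥R ∣ Nat.card ↥(R ⊓ centralizer ({u} : Set D) : Subgroup D) *
      Nat.card ↥(R ⊓ centralizer ({u * z} : Set D) : Subgroup D) := by
  have hui : u⁻¹ = u := inv_eq_of_mul_eq_one_left huu
  let φ : ↥R →* D :=
    { toFun := fun m => m * (u * m * u⁻¹)
      map_one' := by
        show (1 : D) * (u * 1 * u⁻¹) = 1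
        group
      map_mul' := fun a b => by
        have h1 : u * (a : D) * u⁻¹ ∈ R := hRn.conj_mem _ a.2 u
        show (a : D) * b * (u * (a * b) * u⁻¹) = a * (u * a * u⁻¹) * (b * (u * b * u⁻¹))
        calc (a : D) * b * (u * (a * b) * u⁻¹) = a * (b * (u * a * u⁻¹)) * (u * b * u⁻¹) := by group
          _ = a * ((u * a * u⁻¹) * b) * (u * b * u⁻¹) := by rw [hab _ b.2 _ h1]
          _ = _ := by group }
  have h1 : Nat.card ↥R = Nat.card ↥φ.range * Nat.card ↥φ.ker := by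
    rw [Subgroup.card_eq_card_quotient_mul_card_subgroup φ.ker]
    congr 1
    exact Nat.card_congr (QuotientGroup.quotientKerEquivRange φ).toEquiv
  have h2 : φ.range ≤ R ⊓ centralizer ({u} : Set D) := by
    rintro _ ⟨m, rfl⟩
    have h3 : u * (m : D) * u⁻¹ ∈ R := hRn.conj_mem _ m.2 u
    refine ⟨R.mul_mem m.2 h3, mem_centralizer_singleton_iff.2 ?_⟩
    show (m : D) * (u * m * u⁻¹) * u = u * (m * (u * m * u⁻¹))
    calc (m : D) * (u * m * u⁻¹) * u = (u * m * u⁻¹) * m * u := by rw [hab _ m.2 _ h3]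
      _ = (u * m * u⁻¹) * m * u⁻¹ := by rw [hui]
      _ = (u * m * u⁻¹) * (u * u * m) * u⁻¹ := by rw [huu, one_mul]
      _ = _ := by group
  have h3 : φ.ker.map R.subtype ≤ R ⊓ centralizer ({u * z} : Set D) := by
    rintro _ ⟨m, hm, rfl⟩
    refine ⟨m.2, mem_centralizer_singleton_iff.2 ?_⟩
    have h4 : (m : D) * (u * m * u⁻¹) = 1 := MonoidHom.mem_ker.1 hm
    have h5 : u * (m : D) * u⁻¹ = (m : D)⁻¹ := (inv_eq_of_mul_eq_one_right h4).symm
    have h6 : u * (m : D)⁻¹ * u⁻¹ = m := by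
      have : (u * (m : D) * u⁻¹)⁻¹ = m := by rw [h5, inv_inv]
      calc u * (m : D)⁻¹ * u⁻¹ = (u * (m : D) * u⁻¹)⁻¹ := by group
        _ = m := this
    show (m : D) * (u * z) = u * z * m
    calc (m : D) * (u * z) = (u * (m : D)⁻¹ * u⁻¹) * (u * z) := by rw [h6]
      _ = u * (z * m * z⁻¹) * u⁻¹ * (u * z) := by rw [hinv m m.2]
      _ = u * z * m := by group
  have h4 : Nat.card ↥(φ.ker.map R.subtype) = Nat.card ↥φ.ker := Subgroup.card_map_of_injective R.subtype_injective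
  rw [h1, ← h4]
  exact mul_dvd_mul (Subgroup.card_dvd_of_le h2) (Subgroup.card_dvd_of_le h3)

variable {p : ℕ} [hp : Fact p.Prime] {z x : D} {N : Subgroup D} {A : Type*} [Group A]
    {f : ↥(centralizer ({z} : Set D)) →* A}

/-- `z` inverts the normal subgroups of `N` of order prime to `p` -/
theorem z_inv [Finite D] (h : BpSpor.M5.Rad p z x N f) (hp2 : p ≠ 2) {R : Subgroup D} (hRn : R.Normal) (hRN : R ≤ N)
    (hcop : ∀ m ∈ R, ∀ i : ℤ, m = x ^ i → m = 1) {m : D} (hm : m ∈ R) : z * m * z⁻¹ = m⁻¹ := by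
  obtain ⟨i, hi⟩ := h.inv hp2 (hRN hm)
  have h1 : m * (z * m * z⁻¹) ∈ R := R.mul_mem hm (hRn.conj_mem m hm z)
  have h2 := hcop _ h1 i (by rw [hi]; group)
  exact (inv_eq_of_mul_eq_one_right h2).symm

/-- the normal Sylow `r`-subgroup of `N`, with its order -/
theorem exists_R' [Finite D] (h : BpSpor.M5.Rad p z x N f) (hp2 : p ≠ 2) {r : ℕ} (hr : r.Prime) (hrp : r ≠ p) :
    ∃ R : Subgroup D, R.Normal ∧ R ≤ N ∧ IsPGroup r ↥R ∧ (∀ k : ℕ, r ^ k ∣ Nat.card ↥N → r ^ k ∣ Nat.card ↥R) ∧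
      (∀ m ∈ R, ∀ i : ℤ, m = x ^ i → m = 1) ∧ ∀ n ∈ N, ∀ m ∈ R, n * m = m * n := by
  have : Fact r.Prime := ⟨hr⟩
  have hNn := h.nN
  have hnil : Group.IsNilpotent ↥N := h.isNilpotent hp2
  obtain ⟨P⟩ : Nonempty (Sylow r ↥N) := inferInstance
  have hPn : (P : Subgroup ↥N).Normal := inferInstance
  have hPc : (P : Subgroup ↥N).Characteristic := Sylow.characteristic_of_normal P hPn
  have hRn : ((P : Subgroup ↥N).map N.subtype).Normal := ConjAct.normal_of_characteristic_of_normal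
  have hRN : (P : Subgroup ↥N).map N.subtype ≤ N := Subgroup.map_subtype_le _
  have hRp : IsPGroup r ↥((P : Subgroup ↥N).map N.subtype) := P.isPGroup'.map _
  have hcop : ∀ m ∈ (P : Subgroup ↥N).map N.subtype, ∀ i : ℤ, m = x ^ i → m = 1 := by
    intro m hm i hi
    obtain ⟨j, hj⟩ := hRp ⟨m, hm⟩
    have hmr : m ^ r ^ j = 1 := congrArg Subtype.val hj
    have hmp : m ^ p = 1 := by
      rw [hi, ← zpow_natCast, ← zpow_mul, mul_comm, zpow_mul, zpow_natCast, ← h.ox, pow_orderOf_eq_one, one_zpow]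
    have h3 : orderOf m ∣ Nat.gcd (r ^ j) p := Nat.dvd_gcd (orderOf_dvd_of_pow_eq_one hmr) (orderOf_dvd_of_pow_eq_one hmp)
    rw [(((Nat.coprime_primes hr hp.out).2 hrp).pow_left j), Nat.dvd_one, orderOf_eq_one_iff] at h3
    exact h3
  refine ⟨(P : Subgroup ↥N).map N.subtype, hRn, hRN, hRp, ?_, hcop, ?_⟩
  · intro k hrN
    rw [Subgroup.card_map_of_injective N.subtype_injective]
    exact P.pow_dvd_card_of_pow_dvd_card hrN
  · intro n hn m hm
    obtain ⟨i, hi⟩ := h.comm hp2 hn (hRN hm)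
    have h1 : m⁻¹ * (n * m * n⁻¹) ∈ (P : Subgroup ↥N).map N.subtype :=
      mul_mem (inv_mem hm) (hRn.conj_mem m hm n)
    have h2 := hcop _ h1 i (by rw [hi]; group)
    rw [inv_mul_eq_one, eq_comm, mul_inv_eq_iff_eq_mul] at h2
    exact h2

end abs

/-! ### Elements of order 3 -/

/-- `5 ^ 4` does not divide `|C(s)|`, `s` of order 3 commuting with a conjugate of `z` -/
theorem three_in {x : centralizer ({zz} : Set MG)} (hx : orderOf x = 3) :
    ¬ 5 ^ 4 ∣ Nat.card ↥(centralizer ({(x : MG)} : Set MG)) := by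
  have := finite
  have := simple
  have I := CoOneFin.coOne
  have htr := KPair.trNe KDone.lft LThreeB.Row.cent (LThreeMBTr.traceNe KDone.lft LThreeMBTr.TensK.tens)
  have hxo : orderOf (x : MG) = 3 := by rw [Subgroup.orderOf_coe, hx]
  have h0 : ¬ 5 ^ 4 ∣ 3 ^ 13 * (448345497600 * 2) := by norm_num
  rcases I.ranks (pi x) (orderOf_pi chart hx) with h1 | h1 | h1 | h1
  · exact H199.AbMon.not_dvd_of_dvd h0 (H199.AbMon.three_zero' hx h1)
  · obtain ⟨x₀, u, g, hx₀, hfr₀, huz, hux, hne, hg⟩ :=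
      KPair.hasPair KDone.lft LThreeB.Row.cent PreUniq.MonRow.second COct.octPair
    obtain ⟨k, hk⟩ := conj_six chart htr I.ranks I.six
      (fun x hx h2 => ⟨(good_of_inputs chart I hx h2 : Good.{0} _).simple, (good_of_inputs chart I hx h2 : Good.{0} _).nc⟩)
      hx₀ hfr₀ huz hux hne hg hx h1
    rw [← BpSpor.card_cent_of_conj hk]
    exact H199.AbMon.not_dvd_of_dvd h0 (H199.AbMon.three_zero' hx₀ hfr₀)
  · obtain ⟨e⟩ := LThreeB.isoTh_of_inputs chart I hx h1
    rw [card_XX, hxo, Nat.card_congr e.toEquiv, Cfsg.Agent.S1700.result.2]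
    norm_num
  · obtain ⟨e⟩ := LThreeB.isoFi_of_inputs chart I hx h1
    rw [card_XX, hxo, Nat.card_congr e.toEquiv, Cfsg.Agent.S1698.result.2]
    norm_num

theorem three {x : MG} (hx : orderOf x = 3) (he : Ev x) : ¬ 5 ^ 4 ∣ Nat.card ↥(centralizer ({x} : Set MG)) := by
  obtain ⟨x', hx', hc⟩ := exists_in hx he
  rw [← hc]
  exact three_in hx'

/-! ### Elements of order 5 of `Co₁` -/

theorem co_five {s : Co1} (hs : orderOf s = 5) : ¬ 7 ^ 2 ∣ Nat.card ↥(centralizer ({s} : Set Co1)) := by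
  rcases CoFive.Ranks.ranks s hs with h | h | h
  · obtain ⟨e⟩ := MFive.JTwo.isoJ2 hs h
    have h2 : Nat.card Cfsg.Spor.J2 = 604800 := Cfsg.Agent.S1619.result.2.2.2
    rw [H55.CoOneBd.card_cent_XX, hs, Nat.card_congr e.toEquiv, h2]
    norm_num
  · have h1 : Nat.card ↥(centralizer ({s} : Set Co1)) ∣ 2 ^ 22 * 455625 := by
      obtain ⟨a, rfl, ha, hao⟩ := H55.CoOneBd.exists_lift (by norm_num) (by norm_num) hs
      exact (H55.CoOneBd.card_cent_dvd (by decide) ha).trans (H55.CoOneLow.five_dvd hao (CoFiveC.Main.finrank_of_fr hao h))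
    intro h2
    exact absurd (h2.trans h1) (by norm_num)
  · rw [MFiveHN.UpEight.card_cent hs h]
    norm_num

/-! ### The centralizer -/

/-- the second involution -/
theorem exists_u' {x : centralizer ({zz} : Set MG)} (hx : orderOf x = 5) (hfr : fr (pi x) = 1) :
    ∃ u g : MG, u * zz = zz * u ∧ u * (x : MG) = x * u ∧ u ≠ zz ∧ g * zz * g⁻¹ = u := by
  have := finite
  exact BpSpor.B5.exists_u chart BpSpor.M5.hasPair (CoFive.Ranks.wclassOf _) hx hfr

/-- 7-subgroups of `C(x)` commuting with a conjugate of `z` -/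
theorem seven_z {x : MG} (hx : orderOf x = 5) {R : Subgroup MG} (hR : IsPGroup 7 ↥R)
    (hRx : R ≤ centralizer ({x} : Set MG)) {v g : MG} (hg : g * zz * g⁻¹ = v) (hxv : x * v = v * x)
    (hRv : R ≤ centralizer ({v} : Set MG)) : ¬ 7 ^ 2 ∣ Nat.card ↥R := by
  have := finite
  intro h49
  have h7 : Fact (Nat.Prime 7) := ⟨by norm_num⟩
  have hxz : (g⁻¹ * x * g) * zz = zz * (g⁻¹ * x * g) := by
    calc (g⁻¹ * x * g) * zz = g⁻¹ * (x * (g * zz * g⁻¹)) * g := by group
      _ = g⁻¹ * (v * x) * g := by rw [hg, hxv]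
      _ = g⁻¹ * ((g * zz * g⁻¹) * x) * g := by rw [hg]
      _ = _ := by group
  let x' : centralizer ({zz} : Set MG) := ⟨g⁻¹ * x * g, mem_centralizer_singleton_iff.2 hxz⟩
  have hx' : orderOf x' = 5 := by
    rw [← Subgroup.orderOf_coe, ← hx]
    have := MulEquiv.orderOf_eq (MulAut.conj g⁻¹) x
    rw [MulAut.conj_apply, inv_inv] at this
    exact this
  have hpx := MFive.orderOf_pi chart Nat.prime_five (by decide) hx'
  -- the conjugate of `R`
  have hcz : ∀ m ∈ R, (g⁻¹ * m * g) * zz = zz * (g⁻¹ * m * g) := by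
    intro m hm
    have h1 := mem_centralizer_singleton_iff.1 (hRv hm)
    calc (g⁻¹ * m * g) * zz = g⁻¹ * (m * (g * zz * g⁻¹)) * g := by group
      _ = g⁻¹ * (v * m) * g := by rw [hg, h1]
      _ = g⁻¹ * ((g * zz * g⁻¹) * m) * g := by rw [hg]
      _ = _ := by group
  let φ : ↥R →* Co1 :=
    { toFun := fun m => pi ⟨g⁻¹ * m * g, mem_centralizer_singleton_iff.2 (hcz m m.2)⟩
      map_one' := by
        rw [← map_one pi]
        congr 1
        exact Subtype.ext (by show g⁻¹ * (1 : MG) * g = 1; group)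
      map_mul' := fun a b => by
        rw [← map_mul pi]
        congr 1
        exact Subtype.ext (by show g⁻¹ * ((a : MG) * b) * g = g⁻¹ * a * g * (g⁻¹ * b * g); group) }
  have hφ : Function.Injective φ := by
    rw [injective_iff_map_eq_one]
    intro a ha
    have h1 := (chart.pi_eq_one _).1 ha
    have h2 := MFive.pow_four chart h1
    have h3 : (g⁻¹ * (a : MG) * g) ^ 4 = 1 := h2
    have h4 : (a : MG) ^ 4 = 1 := by
      have h5 : (g⁻¹ * (a : MG) * (g⁻¹)⁻¹) ^ 4 = 1 := by rw [inv_inv]; exact h3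
      rw [conj_pow] at h5
      calc (a : MG) ^ 4 = g * (g⁻¹ * (a : MG) ^ 4 * (g⁻¹)⁻¹) * g⁻¹ := by group
        _ = 1 := by rw [h5]; group
    have h5 : a ^ 4 = 1 := Subtype.ext h4
    obtain ⟨k, hk⟩ := hR a
    have h6 : a ^ (Nat.gcd 4 (7 ^ k)) = 1 := pow_gcd_eq_one.2 ⟨h5, hk⟩
    have h7 : Nat.gcd 4 (7 ^ k) = 1 := by
      have : Nat.Coprime 4 (7 ^ k) := Nat.Coprime.pow_right k (by decide)
      exact this
    rwa [h7, pow_one] at h6
  have h1 : φ.range ≤ centralizer ({pi x'} : Set Co1) := by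
    rintro _ ⟨m, rfl⟩
    refine mem_centralizer_singleton_iff.2 ?_
    show pi _ * pi x' = pi x' * pi _
    rw [← map_mul, ← map_mul]
    congr 1
    apply Subtype.ext
    have h2 := mem_centralizer_singleton_iff.1 (hRx m.2)
    show g⁻¹ * (m : MG) * g * (g⁻¹ * x * g) = g⁻¹ * x * g * (g⁻¹ * m * g)
    calc g⁻¹ * (m : MG) * g * (g⁻¹ * x * g) = g⁻¹ * (m * x) * g := by group
      _ = g⁻¹ * (x * m) * g := by rw [h2]
      _ = _ := by group
  apply co_five hpx
  refine h49.trans ?_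
  rw [Nat.card_congr (MonoidHom.ofInjective hφ).toEquiv]
  exact Subgroup.card_dvd_of_le h1

set_option maxHeartbeats 1000000 in
/-- **The order of `C(x)`.** -/
theorem card_dvd {x : centralizer ({zz} : Set MG)} (hx : orderOf x = 5) (hfr : fr (pi x) = 1) :
    Nat.card ↥(centralizer ({(x : MG)} : Set MG)) ∣ 5 ^ 7 * (604800 * 2) := by
  have := finite
  have hp : Fact (Nat.Prime 5) := ⟨Nat.prime_five⟩
  have hj := CpAutBFive.Final.hJ (pi x) (MFive.orderOf_pi chart Nat.prime_five (by decide) hx) hfr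
  obtain ⟨e⟩ := hj
  have hs : IsSimpleGroup (XX (pi x)) := (MulEquiv.isSimpleGroup_congr e).2 Cfsg.Agent.S1620.result.1
  have hc : Nat.card (XX (pi x)) = 604800 := by
    rw [Nat.card_congr e.toEquiv, Cfsg.Agent.J2Sylow.SporSylow.card_J2]
  have hns : ¬ Group.IsSolvable (XX (pi x)) := not_solvable hs hc (by norm_num) (by norm_num)
  obtain ⟨N, hN⟩ := BpSpor.M5.exists_rad chart (by norm_num) hx hfr
    (fun d hd hc => MFive.isolated chart BpSpor.M5.trNe hx hfr d hd hc) hs (by rw [hc]; decide)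
  obtain ⟨k, hk, hkk⟩ := PreUniq.MonRow.exists_kk Nat.prime_five (by decide) PreUniq.MonFiveRow.neg_five x hx hfr
  have hkk' : k * k = zz := hkk
  have hkz : k * zz = zz * k := by rw [← hkk', mul_assoc]
  obtain ⟨K, hK⟩ : ∃ K : ↥(centralizer ({zD x} : Set ↥(centralizer ({(x : MG)} : Set MG)))),
      (K : ↥(centralizer ({(x : MG)} : Set MG))) * K = zD x :=
    ⟨⟨⟨k, mem_centralizer_singleton_iff.2 hk⟩, mem_centralizer_singleton_iff.2 (Subtype.ext hkz)⟩, Subtype.ext hkk'⟩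
  obtain ⟨m, hm, hcm⟩ := hN.card_N_mul hns
  rw [hc] at hcm
  have hxo : orderOf (x : MG) = 5 := by rw [Subgroup.orderOf_coe, hx]
  -- `5 ^ 7 ∣ |N|`
  have hD4 := BpSpor.M5.dvd_zero chart BpSpor.M5.trNe (CpAutBFive.Closed.coFive CpAutBFive.Final.hJ)
    CpAutBFive.Closed.hnEight BpSpor.M5.hasPair (CoFive.Ranks.wclassOf _) CoFive.Sylow.exists_four hx hfr
  obtain ⟨S, hS, hSp, hSN, hxS, hS7⟩ := H546.RadSeven.exists_radical_seven hns hN hK (a := 2) hD4
    (by rw [hc]; norm_num) (by rw [hc]; norm_num)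
  have hN7 : 5 ^ 7 ∣ Nat.card ↥N := hS7.trans (Subgroup.card_dvd_of_le hSN)
  -- the second involution
  obtain ⟨u, g, huz, hux, hne, hg⟩ := exists_u' hx hfr
  have huu : u * u = 1 := by
    rw [← hg]
    calc g * zz * g⁻¹ * (g * zz * g⁻¹) = g * (zz * zz) * g⁻¹ := by group
      _ = 1 := by rw [zz_sq]; group
  have huzsq : (u * zz) * (u * zz) = 1 := by
    calc (u * zz) * (u * zz) = u * (zz * u) * zz := by group
      _ = (u * u) * (zz * zz) := by rw [← huz]; group
      _ = 1 := by rw [huu, zz_sq, one_mul]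
  have hu1 : u ≠ 1 := by
    intro h1
    apply zz_ne
    calc zz = g⁻¹ * (g * zz * g⁻¹) * g := by group
      _ = 1 := by rw [hg, h1]; group
  have huz1 : u * zz ≠ 1 := by
    intro h1
    apply hne
    calc u = u * (zz * zz) := by rw [zz_sq, mul_one]
      _ = (u * zz) * zz := by group
      _ = zz := by rw [h1, one_mul]
  let uD : ↥(centralizer ({(x : MG)} : Set MG)) := ⟨u, mem_centralizer_singleton_iff.2 hux⟩
  have huuD : uD * uD = 1 := Subtype.ext huu
  -- the order of `N`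
  have hN1 : Nat.card ↥N ∣ 2 ^ 39 * (3 ^ 17 * (7 ^ 5 * (11 ^ 2 * (13 ^ 3 * (17 ^ 1 * (19 ^ 1 * (23 ^ 1 * (29 ^ 1 * (31 ^ 1 *
      (41 ^ 1 * (47 ^ 1 * (59 ^ 1 * (71 ^ 1 * 5 ^ 7))))))))))))) := by
    have h1 : Nat.card ↥N * (604800 * m) ∣ Nat.card MG := by
      rw [← hcm]
      exact Subgroup.card_subgroup_dvd_card _
    have h2 : Nat.card ↥N * 604800 ∣ Nat.card MG := (mul_dvd_mul_left _ (dvd_mul_right _ m)).trans h1
    rw [card_M] at h2
    refine Nat.dvd_of_mul_dvd_mul_right (show 0 < 604800 by norm_num) (h2.trans ?_)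
    norm_num
  have hbig : ∀ r, Big r → ¬ r ∣ Nat.card ↥N := by
    intro r hr h1
    exact five_zero hx hfr hr (h1.trans (Subgroup.card_subgroup_dvd_card N))
  have h2 : ¬ 2 ∣ Nat.card ↥N := by
    intro h1
    exact (Nat.not_even_iff_odd.2 hN.oN) (even_iff_two_dvd.2 h1)
  have g1 := dvd_of_not_dvd Nat.prime_two h2 hN1
  -- `3`
  have h3 : ¬ 3 ∣ Nat.card ↥N := by
    intro hd
    obtain ⟨R, hRn, hRN, hRp, hRc, hcop, hNC⟩ := exists_R' hN (by norm_num) Nat.prime_three (by norm_num)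
    have hd' : 3 ∣ Nat.card ↥R := by
      have := hRc 1 (by rw [pow_one]; exact hd)
      rwa [pow_one] at this
    obtain ⟨s, hsR, hso, hsu⟩ := exists_s hRn Nat.prime_three (fun a ha b hb => hNC a (hRN ha) b hb) huuD
      (fun m hm => z_inv hN (by norm_num) hRn hRN hcop hm) hd'
    have hso' : orderOf (s : MG) = 3 := by rw [Subgroup.orderOf_coe, hso]
    have hs3 : (s : MG) ^ 3 = 1 := by rw [← hso', pow_orderOf_eq_one]
    have hev : Ev (s : MG) := by
      rcases hsu with h | h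
      · exact LThreeM.FiRow.exists_z_of_comm hs3 huu hu1 (congrArg Subtype.val h).symm
      · exact LThreeM.FiRow.exists_z_of_comm hs3 huzsq huz1 (congrArg Subtype.val h).symm
    apply three hso' hev
    have h5 : N.map (centralizer ({(x : MG)} : Set MG)).subtype ≤ centralizer ({(s : MG)} : Set MG) := by
      rintro _ ⟨n, hn, rfl⟩
      exact mem_centralizer_singleton_iff.2 (congrArg Subtype.val (hNC n hn s hsR))
    have h6 := Subgroup.card_dvd_of_le h5
    rw [Subgroup.card_map_of_injective (Subgroup.subtype_injective _)] at h6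
    exact ((pow_dvd_pow 5 (by norm_num : 4 ≤ 7)).trans hN7).trans h6
  have g2 := dvd_of_not_dvd Nat.prime_three h3 g1
  -- `7`
  have h7 : ¬ 7 ∣ Nat.card ↥N := by
    have hf7 : Fact (Nat.Prime 7) := ⟨by norm_num⟩
    refine not_dvd_N hN hns (by norm_num) hK (r := 7) (q := 5) (n := 3) (by norm_num) (by norm_num)
      (by norm_num) (by norm_num) (by rw [hc]; norm_num) ?_ ?_
    · intro hd
      obtain ⟨R, hRn, hRN, hRp, hRc, hcop, hNC⟩ := exists_R' hN (by norm_num) (r := 7) (by norm_num) (by norm_num)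
      have h4 := (hRc _ hd).trans (card_dvd_mul hRn (fun a ha b hb => hNC a (hRN ha) b hb) huuD
        (fun m hm => z_inv hN (by norm_num) hRn hRN hcop hm))
      have key : ∀ (v : ↥(centralizer ({(x : MG)} : Set MG))), ∃ j, Nat.card
          ↥(R ⊓ centralizer ({v} : Set ↥(centralizer ({(x : MG)} : Set MG))) : Subgroup _) = 7 ^ j ∧
          ∃ R' : Subgroup MG, IsPGroup 7 ↥R' ∧ Nat.card ↥R' = 7 ^ j ∧ R' ≤ centralizer ({(x : MG)} : Set MG) ∧
            R' ≤ centralizer ({(v : MG)} : Set MG) := by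
        intro v
        have h5 : IsPGroup 7 ↥(R ⊓ centralizer ({v} : Set ↥(centralizer ({(x : MG)} : Set MG))) : Subgroup _) :=
          hRp.to_le inf_le_left
        obtain ⟨j, hj⟩ := IsPGroup.iff_card.1 h5
        refine ⟨j, hj, (R ⊓ centralizer ({v} : Set ↥(centralizer ({(x : MG)} : Set MG))) : Subgroup _).map
          (centralizer ({(x : MG)} : Set MG)).subtype, h5.map _, ?_, Subgroup.map_subtype_le _, ?_⟩
        · rw [Subgroup.card_map_of_injective (Subgroup.subtype_injective _), hj]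
        · rintro _ ⟨a, ha, rfl⟩
          exact mem_centralizer_singleton_iff.2 (congrArg Subtype.val (mem_centralizer_singleton_iff.1 ha.2))
      obtain ⟨a, ha, Ra, hRa, hca, hax, hau⟩ := key uD
      obtain ⟨b, hb, Rb, hRb, hcb, hbx, hbu⟩ := key (uD * zD x)
      have huzD : ((uD * zD x : ↥(centralizer ({(x : MG)} : Set MG))) : MG) = u * zz := rfl
      rw [huzD] at hbu
      rw [ha, hb, ← pow_add] at h4
      have h5 : 3 + 1 ≤ a + b := (Nat.pow_dvd_pow_iff_le_right (by norm_num : 1 < 7)).1 h4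
      have h6 : a ≤ 1 := by
        by_contra hcon
        refine seven_z hxo hRa hax hg hux.symm hau ?_
        rw [hca]
        exact pow_dvd_pow 7 (not_le.1 hcon)
      have h8 : b ≤ 2 := by
        by_contra hcon
        have huzo : orderOf (u * zz) = 2 := by
          have : Fact (Nat.Prime 2) := ⟨Nat.prime_two⟩
          exact orderOf_eq_prime (by rw [pow_two, huzsq]) huz1
        have hxz : (x : MG) * zz = zz * x := mem_centralizer_singleton_iff.1 x.2
        rcases cls huzo with ⟨g', hg'⟩ | hta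
        · refine seven_z hxo hRb hbx hg' ?_ hbu ?_
          · calc (x : MG) * (u * zz) = (x * u) * zz := by group
              _ = u * (x * zz) := by rw [← hux]; group
              _ = u * zz * x := by rw [hxz]; group
          · rw [hcb]
            exact pow_dvd_pow 7 (not_le.1 hcon).le
        · have h9 := Subgroup.card_dvd_of_le hbu
          rw [hcb, card_cent_t hta] at h9
          exact absurd ((pow_dvd_pow 7 (show 3 ≤ b from not_le.1 hcon)).trans h9) (by norm_num)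
      exact absurd (h5.trans (Nat.add_le_add h6 h8)) (by norm_num)
    · intro j h1 h7
      interval_cases j <;> norm_num
  have g3 := dvd_of_not_dvd (by norm_num) h7 g2
  have h11 : ¬ 11 ∣ Nat.card ↥N := fun h => (H199.AbMon.five_zero' hx hfr).1 (h.trans (Subgroup.card_subgroup_dvd_card N))
  have h13 : ¬ 13 ∣ Nat.card ↥N := fun h => (H199.AbMon.five_zero' hx hfr).2 (h.trans (Subgroup.card_subgroup_dvd_card N))
  have g4 := dvd_of_not_dvd (by norm_num) h11 g3
  have g5 := dvd_of_not_dvd (by norm_num) h13 g4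
  have g6 := dvd_of_not_dvd (by norm_num) (hbig 17 (by unfold Big; simp)) g5
  have g7 := dvd_of_not_dvd (by norm_num) (hbig 19 (by unfold Big; simp)) g6
  have g8 := dvd_of_not_dvd (by norm_num) (hbig 23 (by unfold Big; simp)) g7
  have g9 := dvd_of_not_dvd (by norm_num) (hbig 29 (by unfold Big; simp)) g8
  have g10 := dvd_of_not_dvd (by norm_num) (hbig 31 (by unfold Big; simp)) g9
  have g11 := dvd_of_not_dvd (by norm_num) (hbig 41 (by unfold Big; simp)) g10
  have g12 := dvd_of_not_dvd (by norm_num) (hbig 47 (by unfold Big; simp)) g11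
  have g13 := dvd_of_not_dvd (by norm_num) (hbig 59 (by unfold Big; simp)) g12
  have g14 := dvd_of_not_dvd (by norm_num) (hbig 71 (by unfold Big; simp)) g13
  rw [hcm]
  exact mul_dvd_mul g14 (mul_dvd_mul_left _ hm)

/-- **Elements of order 5 commuting with a conjugate of `z`.** -/
theorem five {x : MG} (hx : orderOf x = 5) (he : Ev x) :
    Nat.card ↥(centralizer ({x} : Set MG)) = 5 * 273030912000000 ∨
      Nat.card ↥(centralizer ({x} : Set MG)) ∣ 5 ^ 7 * (604800 * 2) := by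
  have := finite
  have := simple
  obtain ⟨x', hx', hc⟩ := exists_in hx he
  rw [← hc]
  have hxo : orderOf (x' : MG) = 5 := by rw [Subgroup.orderOf_coe, hx']
  rcases MFive.cases_five chart BpSpor.M5.trNe (CpAutBFive.Closed.coFive CpAutBFive.Final.hJ)
    CpAutBFive.Closed.hnEight BpSpor.M5.hasPair hx' with ⟨⟨e⟩⟩ | ⟨x₀, k, i, hx₀, hfr, hk⟩
  · left
    rw [card_XX, hxo, Nat.card_congr e.toEquiv, Cfsg.Agent.S1701.result.2]
  · right
    obtain ⟨e⟩ := MFive.exists_cent_equiv Nat.prime_five (x := (x' : MG)) (y := (x₀ : MG)) hxo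
      (by rw [Subgroup.orderOf_coe, hx₀]) hk
    rw [← Nat.card_congr e.toEquiv]
    exact card_dvd hx₀ hfr

end Cfsg.Agent.H58.MonFiveB
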