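import Cfsg.Agent.H438.Fpr.MonE
import Cfsg.Agent.H87.MP.Mon
import Cfsg.Agent.H199.AbMon

/-!
# Elements of order 71 of the Monster (helper58)

* `norm71` : **`|C(x)| = 71`, `|N(⟨x⟩)| = 71 · 35`** for `x` of order 71, from `71 ∤ |C(y)|` for `y` of order 23, 29.

Route: `C(y)` is `Nice` (a normal `71'`-subgroup `K` with `P K` normal) for `y` of order 3, 5, 7, 13, 17, 19, 31, 47
commuting with `x`; no transposition commutes with such a `y`; pigeonhole for 5 and 7; Sylow arithmetic; the cases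
`|C(x)| = 71 · 5, 71 · 7` by the structure of `C(y)`.
-/

set_option autoImplicit false
set_option maxRecDepth 100000

namespace Cfsg.Agent.H58.Mon71

open Subgroup Cfsg Cfsg.Agent.OrdDiv Cfsg.Agent.H291.SolNorm Cfsg.Agent.H995.CopEngine
open Cfsg.Agent.H438.Fpr.LemB
open Cfsg.Agent.BpSpor.MBigModel Cfsg.Agent.H58.Cop.MLow
open Cfsg.Agent.LThreeB.Row (TA)
open scoped Pointwise

universe u

section LTwo

open Matrix

/-- `SL₂(ℤ/71)` -/
abbrev SL := Matrix.SpecialLinearGroup (Fin 2) (ZMod 71)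

theorem p71 : Nat.Prime 71 := by norm_num

instance fact71 : Fact (Nat.Prime 71) := ⟨p71⟩

/-- the homomorphism to `PSL₂(F)` -/
theorem exists_hom {F : Type} [Field F] [Fintype F] (hF : Fintype.card F = 71) :
    ∃ π : SL →* Matrix.ProjectiveSpecialLinearGroup (Fin 2) F, (∀ A : SL, π A = 1 → ∀ B : SL, A * B = B * A) ∧
      π (-1) = 1 := by
  let e : ZMod 71 ≃+* F := ZMod.ringEquivOfPrime F p71 hF
  let f : SL →* Matrix.SpecialLinearGroup (Fin 2) F := Matrix.SpecialLinearGroup.map (e : ZMod 71 →+* F)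
  have hf : Function.Injective f := by
    intro A B h
    ext i j
    have h1 := congrArg (fun M : Matrix.SpecialLinearGroup (Fin 2) F => (M : Matrix (Fin 2) (Fin 2) F) i j) h
    exact e.injective h1
  refine ⟨(QuotientGroup.mk' _).comp f, ?_, ?_⟩
  · intro A hA B
    have h1 : f A ∈ Subgroup.center (Matrix.SpecialLinearGroup (Fin 2) F) := (QuotientGroup.eq_one_iff _).1 hA
    apply hf
    rw [map_mul, map_mul]
    exact ((Subgroup.mem_center_iff.1 h1) (f B)).symm
  · refine (QuotientGroup.eq_one_iff _).2 (Subgroup.mem_center_iff.2 fun g => ?_)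
    have h1 : f (-1) = -1 := by
      ext i j
      fin_cases i <;> fin_cases j <;> simp [f]
    rw [h1]
    simp

/-- the matrices -/
def s0 : SL := ⟨!![0, 1; -1, 0], by decide +kernel⟩
def g0 : SL := ⟨!![2, 0; 0, 36], by decide +kernel⟩
def b0 : SL := ⟨!![1, 1; 0, 1], by decide +kernel⟩

theorem s0_sq : s0 * s0 = -1 := by decide +kernel
theorem s0_ne : s0 * b0 ≠ b0 * s0 := by decide +kernel
theorem prod_ne : ∀ n : Fin 6, (s0 * (g0 * s0 * g0⁻¹)) ^ (n.val + 1) * b0 ≠ b0 * (s0 * (g0 * s0 * g0⁻¹)) ^ (n.val + 1) := by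
  decide +kernel

/-- **The data.** -/
theorem data {S : Type u} [Group S] [Finite S] (h : Real (.psl 2 71) S) : ∃ s g : S, orderOf s = 2 ∧
    6 < orderOf (s * (g * s * g⁻¹)) := by
  obtain ⟨F, _, _, hF, ⟨e⟩⟩ := h
  obtain ⟨π₀, h0, hm⟩ := exists_hom hF
  set π : SL →* S := (e.symm : _ →* S).comp π₀ with hπ
  have h1 : ∀ A B : SL, A * B ≠ B * A → π A ≠ 1 := by
    intro A B hAB hA
    refine hAB (h0 A ?_ B)
    have h2 : e.symm (π₀ A) = 1 := hA
    rwa [map_eq_one_iff e.symm e.symm.injective] at h2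
  have hm1 : π (-1) = 1 := by
    show e.symm (π₀ (-1)) = 1
    rw [hm, map_one]
  refine ⟨π s0, π g0, ?_, ?_⟩
  · have : Fact (Nat.Prime 2) := ⟨Nat.prime_two⟩
    refine orderOf_eq_prime ?_ (h1 _ _ s0_ne)
    rw [pow_two, ← map_mul, s0_sq, hm1]
  · by_contra hcon
    rw [not_lt] at hcon
    have h2 : π s0 * (π g0 * π s0 * (π g0)⁻¹) = π (s0 * (g0 * s0 * g0⁻¹)) := by
      simp only [map_mul, map_inv]
    rw [h2] at hcon
    have h3 := orderOf_pos (π (s0 * (g0 * s0 * g0⁻¹)))
    have h4 := pow_orderOf_eq_one (π (s0 * (g0 * s0 * g0⁻¹)))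
    obtain ⟨n, hn⟩ := Nat.exists_eq_succ_of_ne_zero h3.ne'
    rw [hn] at h4 hcon
    rw [← map_pow] at h4
    exact h1 _ _ (prod_ne ⟨n, by omega⟩) h4

/-- the check -/
def isL (g : Grp) : Bool :=
  match g with
  | .psl n q => Nat.beq n 2 && Nat.beq q 71
  | _ => false

/-- `|M|` -/
abbrev NM : ℕ := 808017424794512875886459904961710757005754368000000000

theorem chk : ((cands H568.SC.Abs.lM NM).all fun g => !Nat.beq (ordN g % 71) 0 || Nat.beq (ordN g) NM || isL g) = true := by
  decide +kernel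

theorem real_of {S : Type u} [Group S] [Finite S] [IsSimpleGroup S] (hK : AllKnown.{u})
    (hna : ¬ ∀ a b : S, a * b = b * a) (hd : Nat.card S ∣ NM) (hr : 71 ∣ Nat.card S) (hne : Nat.card S ≠ NM) :
    Real (.psl 2 71) S := by
  obtain ⟨g, h1, h2, h3⟩ := exists_good table (hK S) hna H568.SC.Abs.lM_valid hd
  have h4 := (List.all_eq_true.1 chk) g h1
  rw [Bool.or_eq_true, Bool.or_eq_true] at h4
  rcases h4 with (h4 | h4) | h4
  · rw [h3] at hr
    rw [Nat.mod_eq_zero_of_dvd hr] at h4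
    simp at h4
  · exact absurd (h3.trans (Nat.eq_of_beq_eq_true h4)) hne
  · cases g with
    | psl n q =>
      simp only [isL, Bool.and_eq_true] at h4
      obtain ⟨h5, h6⟩ := h4
      rw [Nat.eq_of_beq_eq_true h5, Nat.eq_of_beq_eq_true h6] at h2
      exact h2
    | _ => simp [isL] at h4

/-- **The lifted data.** -/
theorem lift {X : Type u} [Group X] [Finite X] {K : Subgroup X} [K.Normal] (hodd : ¬ 2 ∣ Nat.card K)
    {S : Subgroup (X ⧸ K)} (hS : Real (.psl 2 71) S) :
    ∃ t g : X, orderOf t = 2 ∧ 6 < orderOf (t * (g * t * g⁻¹)) := by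
  obtain ⟨s, g, h1, h2⟩ := data hS
  obtain ⟨t, ht, hts⟩ := Cfsg.Agent.H190.Exc.exists_lift_order K Nat.prime_two hodd (s : X ⧸ K)
    (by rw [Subgroup.orderOf_coe, h1])
  obtain ⟨g', hg'⟩ := QuotientGroup.mk'_surjective K (g : X ⧸ K)
  refine ⟨t, g', ht, ?_⟩
  have h15 := orderOf_map_dvd (QuotientGroup.mk' K) (t * (g' * t * g'⁻¹))
  rw [map_mul, map_mul, map_mul, map_inv, hts, hg'] at h15
  have h16 : (s : X ⧸ K) * ((g : X ⧸ K) * s * (g : X ⧸ K)⁻¹) = ((s * (g * s * g⁻¹) : S) : X ⧸ K) := rfl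
  rw [h16, Subgroup.orderOf_coe] at h15
  exact lt_of_lt_of_le h2 (Nat.le_of_dvd (orderOf_pos _) h15)

end LTwo

/-! ### the Monster -/

theorem sq71 : ¬ 71 ^ 2 ∣ NM := by norm_num

theorem not_dvd_cent {t : MG} (ht : orderOf t = 2) : ¬ 71 ∣ Nat.card (centralizer ({t} : Set MG)) := by
  rcases cls ht with ⟨g, hg⟩ | h
  · rw [BpSpor.card_cent_of_conj hg, card_cent_z]
    norm_num
  · rw [card_cent_t h]
    norm_num

theorem dvd_NM (X : Subgroup MG) : Nat.card X ∣ NM := by
  have h := card_subgroup_dvd_card X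
  rwa [card_M] at h

theorem dvd_of_comm {G : Type*} [Group G] {x y : G} (h : x * y = y * x) :
    orderOf x ∣ Nat.card (centralizer ({y} : Set G)) :=
  Subgroup.orderOf_dvd_natCard _ (mem_centralizer_singleton_iff.2 h)

/-- **`x` normalizes no `71'`-subgroup of even order.** -/
theorem odd {x : MG} (hx : orderOf x = 71) {K : Subgroup MG} (hxK : x ∈ normalizer (K : Set MG))
    (hpK : ¬ 71 ∣ Nat.card K) : ¬ 2 ∣ Nat.card K := by
  have hfin := finite
  intro h2
  have hxp : x ^ 71 = 1 := by rw [← hx, pow_orderOf_eq_one]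
  have : Fact (Nat.Prime 2) := ⟨Nat.prime_two⟩
  obtain ⟨S, -, hS, hSc, hxS, -⟩ := H87.MP.exists_inv hxp hxK hpK 2
  have hS1 : S ≠ ⊥ := by
    rintro rfl
    rw [Subgroup.card_bot] at hSc
    have h7 : 1 ≤ (Nat.card K).factorization 2 :=
      (Nat.prime_two.dvd_iff_one_le_factorization Nat.card_pos.ne').1 h2
    have h8 : 2 ^ 1 ≤ 2 ^ (Nat.card K).factorization 2 := Nat.pow_le_pow_right (by norm_num) h7
    rw [← hSc] at h8
    norm_num at h8
  have hE1 := H87.MP.om_ne_bot hS hS1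
  have hxE : x ∈ normalizer ((H87.MP.om S : Subgroup MG) : Set MG) := by
    apply H87.MP.mem_normalizer_of
    rintro a ⟨h5, h6, h7⟩
    refine ⟨(mem_normalizer_iff.1 hxS a).1 h5, fun c hc => ?_, ?_⟩
    · have h9 : x⁻¹ * c * x ∈ S := by
        have := (mem_normalizer_iff.1 (inv_mem hxS) c).1 hc
        rwa [inv_inv] at this
      have h8 := h6 _ h9
      calc x * a * x⁻¹ * c = x * (a * (x⁻¹ * c * x)) * x⁻¹ := by group
        _ = x * ((x⁻¹ * c * x) * a) * x⁻¹ := by rw [h8]
        _ = c * (x * a * x⁻¹) := by group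
    · rw [conj_pow, h7, mul_one, mul_inv_cancel]
  have hEp : IsPGroup 2 (H87.MP.om S : Subgroup MG) := fun a => ⟨1, Subtype.ext (by
    rw [pow_one]
    exact a.2.2.2)⟩
  obtain ⟨k, hk⟩ := IsPGroup.iff_card.1 hEp
  have hk15 : k ≤ 15 := by
    have h5 := H87.MP.rank_mg (H87.MP.om S) ?_ (fun a ha => ha.2.2)
    · rw [hk] at h5
      exact (Nat.pow_le_pow_iff_right (by norm_num : 1 < 2)).1 h5
    · exact ⟨⟨fun a b => Subtype.ext (a.2.2.1 b b.2.1)⟩⟩
  have hk1 : 1 ≤ k := by
    rcases Nat.eq_zero_or_pos k with h | h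
    · rw [h, pow_zero] at hk
      exact absurd (Subgroup.card_eq_one.1 hk) hE1
    · exact h
  have h3 := H87.MP.fixed_mod hxp hxE
  have h4 : (H87.MP.om S ⊓ centralizer ({x} : Set MG) : Subgroup MG) = ⊥ := by
    rw [eq_bot_iff]
    rintro a ⟨ha1, ha2⟩
    by_contra hne
    have ha3 : orderOf a = 2 := orderOf_eq_prime ha1.2.2 hne
    apply not_dvd_cent ha3
    rw [← hx]
    exact dvd_of_comm (mem_centralizer_singleton_iff.1 ha2).symm
  rw [h4, Subgroup.card_bot, hk] at h3
  have h5 : 2 ^ k % 71 = 1 := h3.symm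
  interval_cases k <;> norm_num at h5

/-- the image in `M` of a normal subgroup of `X` -/
theorem odd_in {x : MG} (hx : orderOf x = 71) {X : Subgroup MG} (hxX : x ∈ X) {K : Subgroup X} [hK : K.Normal]
    (h71 : ¬ 71 ∣ Nat.card K) : ¬ 2 ∣ Nat.card K := by
  have hfin := finite
  rw [← Subgroup.card_map_of_injective X.subtype_injective] at h71 ⊢
  exact odd hx (H87.MP.map_normalizer K hxX) h71

/-- no conjugate of `zz` commutes with `y` -/
def NoZ (y : MG) : Prop := ∀ g : MG, (g * zz * g⁻¹) * y ≠ y * (g * zz * g⁻¹)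

theorem noZ_of {q : ℕ} (h0 : ¬ q ∣ 2 ^ 25 * 4157776806543360000) {y : MG} (hy : orderOf y = q) : NoZ y := by
  intro g h
  apply h0
  rw [← card_cent_z, ← Cfsg.Agent.BpSpor.card_cent_of_conj (c := g) (u := zz) (v := g * zz * g⁻¹) rfl]
  rw [← hy]
  exact dvd_of_comm h.symm

theorem cent_ne_top {y : MG} (hy : y ≠ 1) : centralizer ({y} : Set MG) ≠ ⊤ := by
  intro h
  apply hy
  have h1 : y ∈ center MG := by
    rw [mem_center_iff]
    intro g
    have : g ∈ centralizer ({y} : Set MG) := by rw [h]; trivial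
    exact mem_centralizer_singleton_iff.1 this
  rw [center_model] at h1
  exact h1

/-- **No conjugate of `zz` commutes with `y`.** -/
theorem nice_noZ (hK : AllKnown.{0}) {x y : MG} (hx : orderOf x = 71) (hy : y ≠ 1) (hxy : x * y = y * x) (hz : NoZ y) :
    Nice 71 ↥(centralizer ({y} : Set MG)) := by
  have hfin := finite
  set X := centralizer ({y} : Set MG) with hXdef
  have hxX : x ∈ X := mem_centralizer_singleton_iff.2 hxy
  have h1 : 71 ∣ Nat.card X := hx ▸ dvd_of_comm hxy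
  have hXN : Nat.card X ∣ NM := dvd_NM X
  have h2 : ¬ 71 ^ 2 ∣ Nat.card X := fun h3 => sq71 (h3.trans hXN)
  obtain ⟨K, hKn, h71, hP | ⟨S, hS, hna, hrS, -⟩⟩ := dich p71 h1 h2
  · exact ⟨K, hKn, h71, hP⟩
  · exfalso
    have hodd : ¬ 2 ∣ Nat.card K := odd_in hx hxX h71
    have hSX : Nat.card S ∣ Nat.card X :=
      (Subgroup.card_subgroup_dvd_card S).trans (Subgroup.card_quotient_dvd_card K)
    have hne : Nat.card S ≠ NM := by
      intro h
      apply cent_ne_top hy
      apply Subgroup.eq_top_of_card_eq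
      apply Nat.dvd_antisymm (Subgroup.card_subgroup_dvd_card X)
      have h' : Nat.card S = 808017424794512875886459904961710757005754368000000000 := h
      rw [card_M, ← h']
      exact hSX
    have hR := real_of hK hna (hSX.trans hXN) hrS hne
    obtain ⟨t, g, h3, h4⟩ := lift hodd hR
    have ht : orderOf (t : MG) = 2 := by rw [Subgroup.orderOf_coe, h3]
    rcases cls ht with ⟨c, hc⟩ | h
    · apply hz c
      rw [hc]
      exact mem_centralizer_singleton_iff.1 t.2
    · have h5 := six_ta h (ta_conj h (g : MG))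
      have e : (t : MG) * ((g : MG) * t * (g : MG)⁻¹) = ((t * (g * t * g⁻¹) : X) : MG) := rfl
      rw [e, Subgroup.orderOf_coe] at h5
      omega

theorem nice_of_solIdx {x y : MG} (hx : orderOf x = 71) (hxy : x * y = y * x)
    (h : SolIdx 71 ↥(centralizer ({y} : Set MG))) : Nice 71 ↥(centralizer ({y} : Set MG)) := by
  have hfin := finite
  refine Nice.of_solIdx p71 (hx ▸ dvd_of_comm hxy) (fun h => ?_) h
  exact sq71 (h.trans (dvd_NM _))

theorem nice_three {x y : MG} (hx : orderOf x = 71) (hy : orderOf y = 3) (hxy : x * y = y * x) :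
    Nice 71 ↥(centralizer ({y} : Set MG)) :=
  nice_of_solIdx hx hxy (H291.SCMon.three (by norm_num) (by norm_num) (by norm_num) (by norm_num) (by norm_num) hy)

theorem nice_five {x y : MG} (hx : orderOf x = 71) (hy : orderOf y = 5) (hxy : x * y = y * x) :
    Nice 71 ↥(centralizer ({y} : Set MG)) :=
  nice_of_solIdx hx hxy (H291.SCMon.five (by norm_num) (by norm_num) (by norm_num) (by norm_num) hy)

section B

open Cfsg.Agent.LThreeMB (fr zD KChart.chart KChart.pi exists_XX_equiv)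
open Cfsg.Agent.MonsterX.MainPack Cfsg.Agent.MonsterP Cfsg.Agent.MonsterN Cfsg.Agent.MonsterX

/-- the primes 13: `SolIdx 71`, and all involutions of `C(y)` are conjugate to `zz` -/
theorem only_z13 {y : MG} (hy : orderOf y = 13) {g : MG} (hg : (g * zz * g⁻¹) * y = y * (g * zz * g⁻¹)) :
    SolIdx 71 ↥(centralizer ({y} : Set MG)) ∧ ∀ v : MG, orderOf v = 2 → v * y = y * v → ∃ k : MG, k * zz * k⁻¹ = v := by
  have := finite
  have h1 : (g⁻¹ * y * g) * KDone.K.z = KDone.K.z * (g⁻¹ * y * g) := by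
    calc (g⁻¹ * y * g) * KDone.K.z = g⁻¹ * (y * (g * KDone.K.z * g⁻¹)) * g := by group
      _ = g⁻¹ * ((g * KDone.K.z * g⁻¹) * y) * g := by rw [hg]
      _ = KDone.K.z * (g⁻¹ * y * g) := by group
  let x' : centralizer ({KDone.K.z} : Set MG) := ⟨g⁻¹ * y * g, mem_centralizer_singleton_iff.2 h1⟩
  have h3 : g * (x' : MG) * g⁻¹ = y := by
    change g * (g⁻¹ * y * g) * g⁻¹ = y
    group
  have hx' : orderOf x' = 13 := by
    rw [← Subgroup.orderOf_coe, ← hy, ← h3]
    exact (orderOf_injective (MulAut.conj g).toMonoidHom (MulAut.conj g).injective (x' : MG)).symm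
  have hone := BpMon.Thirteen.only_zD KDone.lft MFive.Row.hc hx'
  have hzz : (zz : MG) * zz = 1 := Cfsg.Agent.BpSpor.MBigModel.zz_sq
  constructor
  · obtain ⟨⟨e⟩, -⟩ := exists_XX_equiv h3
    refine SolIdx.congr (Cfsg.Agent.H291.SCMon.zero_of (KChart.chart KDone.lft MFive.Row.hc) (x := x') (by norm_num) ?_) e
    intro d hd hc
    have h5 : d * KDone.K.z * d⁻¹ * (x' : MG) = (x' : MG) * (d * KDone.K.z * d⁻¹) := by
      have hxz : (x' : MG) * KDone.K.z = KDone.K.z * x' := mem_centralizer_singleton_iff.1 x'.2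
      have hdi : d⁻¹ * (x' : MG) = x' * d⁻¹ := by
        rw [inv_mul_eq_iff_eq_mul, ← mul_assoc, hd, mul_inv_cancel_right]
      calc d * KDone.K.z * d⁻¹ * (x' : MG) = d * KDone.K.z * (x' * d⁻¹) := by rw [mul_assoc, hdi]
        _ = d * (KDone.K.z * x') * d⁻¹ := by group
        _ = d * (x' * KDone.K.z) * d⁻¹ := by rw [hxz]
        _ = (d * x') * KDone.K.z * d⁻¹ := by group
        _ = (x' * d) * KDone.K.z * d⁻¹ := by rw [hd]
        _ = _ := by group
    rcases hone ⟨d * KDone.K.z * d⁻¹, mem_centralizer_singleton_iff.2 h5⟩ (Subtype.ext (by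
        change d * KDone.K.z * d⁻¹ * (d * KDone.K.z * d⁻¹) = 1
        calc d * KDone.K.z * d⁻¹ * (d * KDone.K.z * d⁻¹) = d * (zz * zz) * d⁻¹ := by group
          _ = 1 := by rw [hzz]; group)) (Subtype.ext hc) with h6 | h6
    · exfalso
      have h7 : d * KDone.K.z * d⁻¹ = 1 := congrArg Subtype.val h6
      have h8 : (zz : MG) = 1 := by
        calc (zz : MG) = d⁻¹ * (d * KDone.K.z * d⁻¹) * d := by group
          _ = 1 := by rw [h7]; group
      exact Cfsg.Agent.BpSpor.MBigModel.zz_ne h8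
    · exact congrArg Subtype.val h6
  · intro v hv hvy
    have h5 : g⁻¹ * v * g * (x' : MG) = (x' : MG) * (g⁻¹ * v * g) := by
      change g⁻¹ * v * g * (g⁻¹ * y * g) = g⁻¹ * y * g * (g⁻¹ * v * g)
      calc g⁻¹ * v * g * (g⁻¹ * y * g) = g⁻¹ * (v * y) * g := by group
        _ = g⁻¹ * (y * v) * g := by rw [hvy]
        _ = _ := by group
    have h6 : orderOf (g⁻¹ * v * g) = 2 := by
      rw [← hv]
      have := Cfsg.Agent.H568.SC.Mon.conj_order (x := v) (g := g⁻¹)
      rwa [inv_inv] at this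
    obtain ⟨k, hk⟩ := Cfsg.Agent.BpRankZero.isConj_of_one
      (MFive.orderOf_zD (KChart.chart KDone.lft MFive.Row.hc) x') hone
      (u := (⟨g⁻¹ * v * g, mem_centralizer_singleton_iff.2 h5⟩ : ↥(centralizer ({(x' : MG)} : Set MG))))
      (by rw [← Subgroup.orderOf_coe, h6])
    have hk' : (k : MG) * (g⁻¹ * v * g) * (k : MG)⁻¹ = zz := congrArg Subtype.val hk
    refine ⟨g * (k : MG)⁻¹, ?_⟩
    rw [← hk']
    group

theorem ne_one_of_ord {q : ℕ} (hq : q ≠ 1) {y : MG} (hy : orderOf y = q) : y ≠ 1 := by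
  rintro rfl
  rw [orderOf_one] at hy
  exact hq hy.symm

theorem nice_thirteen (hK : AllKnown.{0}) {x y : MG} (hx : orderOf x = 71) (hy : orderOf y = 13) (hxy : x * y = y * x) :
    Nice 71 ↥(centralizer ({y} : Set MG)) := by
  by_cases hz : NoZ y
  · exact nice_noZ hK hx (ne_one_of_ord (by norm_num) hy) hxy hz
  · unfold NoZ at hz
    push Not at hz
    obtain ⟨g, hg⟩ := hz
    exact nice_of_solIdx hx hxy (only_z13 hy hg).1

theorem nice_seven {x y : MG} (hx : orderOf x = 71) (hy : orderOf y = 7) (hxy : x * y = y * x) :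
    Nice 71 ↥(centralizer ({y} : Set MG)) := by
  have := finite
  by_cases ho : Odd (Nat.card ↥(centralizer ({y} : Set MG)))
  · exact nice_of_solIdx hx hxy (SolIdx.of_solvable (by norm_num) (S0205.result ho))
  refine nice_of_solIdx hx hxy ?_
  obtain ⟨g, hg⟩ := MSevenT.hexOdd y hy ho
  have h1 : (g⁻¹ * y * g) * KDone.K.z = KDone.K.z * (g⁻¹ * y * g) := by
    calc (g⁻¹ * y * g) * KDone.K.z = g⁻¹ * (y * (g * KDone.K.z * g⁻¹)) * g := by group
      _ = g⁻¹ * ((g * KDone.K.z * g⁻¹) * y) * g := by rw [hg]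
      _ = KDone.K.z * (g⁻¹ * y * g) := by group
  let x' : centralizer ({KDone.K.z} : Set MG) := ⟨g⁻¹ * y * g, mem_centralizer_singleton_iff.2 h1⟩
  have h3 : g * (x' : MG) * g⁻¹ = y := by
    change g * (g⁻¹ * y * g) * g⁻¹ = y
    group
  have hx' : orderOf x' = 7 := by
    rw [← Subgroup.orderOf_coe, ← hy, ← h3]
    exact (orderOf_injective (MulAut.conj g).toMonoidHom (MulAut.conj g).injective (x' : MG)).symm
  obtain ⟨⟨e⟩, -⟩ := exists_XX_equiv h3
  have h := KChart.chart KDone.lft MFive.Row.hc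
  refine SolIdx.congr ?_ e
  rcases CpAutMSeven.Ranks.hranks _ (MFive.orderOf_pi h (by norm_num) (by decide) hx') with hf | hf
  · have hone := BpRankZero.Seven.only_zD KDone.lft MFive.Row.hc (x := x') (by rw [← hx', pow_orderOf_eq_one]) hf
    have hzz : (zz : MG) * zz = 1 := Cfsg.Agent.BpSpor.MBigModel.zz_sq
    refine Cfsg.Agent.H291.SCMon.zero_of h (by norm_num) ?_
    intro d hd hc
    have h5 : d * KDone.K.z * d⁻¹ * (x' : MG) = (x' : MG) * (d * KDone.K.z * d⁻¹) := by
      have hxz : (x' : MG) * KDone.K.z = KDone.K.z * x' := mem_centralizer_singleton_iff.1 x'.2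
      have hdi : d⁻¹ * (x' : MG) = x' * d⁻¹ := by
        rw [inv_mul_eq_iff_eq_mul, ← mul_assoc, hd, mul_inv_cancel_right]
      calc d * KDone.K.z * d⁻¹ * (x' : MG) = d * KDone.K.z * (x' * d⁻¹) := by rw [mul_assoc, hdi]
        _ = d * (KDone.K.z * x') * d⁻¹ := by group
        _ = d * (x' * KDone.K.z) * d⁻¹ := by rw [hxz]
        _ = (d * x') * KDone.K.z * d⁻¹ := by group
        _ = (x' * d) * KDone.K.z * d⁻¹ := by rw [hd]
        _ = _ := by group
    rcases hone ⟨d * KDone.K.z * d⁻¹, mem_centralizer_singleton_iff.2 h5⟩ (Subtype.ext (by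
        change d * KDone.K.z * d⁻¹ * (d * KDone.K.z * d⁻¹) = 1
        calc d * KDone.K.z * d⁻¹ * (d * KDone.K.z * d⁻¹) = d * (zz * zz) * d⁻¹ := by group
          _ = 1 := by rw [hzz]; group)) (Subtype.ext hc) with h6 | h6
    · exfalso
      have h7 : d * KDone.K.z * d⁻¹ = 1 := congrArg Subtype.val h6
      have h8 : (zz : MG) = 1 := by
        calc (zz : MG) = d⁻¹ * (d * KDone.K.z * d⁻¹) * d := by group
          _ = 1 := by rw [h7]; group
      exact Cfsg.Agent.BpSpor.MBigModel.zz_ne h8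
    · exact congrArg Subtype.val h6
  · refine SolIdx.of_XX (by norm_num) (by rw [Subgroup.orderOf_coe, hx']; norm_num) ?_
    rw [(BpRankZero.MRow.he_facts (CpAutMSeven.ZeroComps.heSix x' hx' hf)).2]
    norm_num

/-! ### transpositions -/

/-- **No transposition commutes with `y`.** -/
theorem no_ta {x y t : MG} (hx : orderOf x = 71) (hxy : x * y = y * x) (hN : Nice 71 ↥(centralizer ({y} : Set MG)))
    (ht : TA t) (hty : t * y = y * t) : False := by
  have hfin := finite
  set H := centralizer ({y} : Set MG) with hH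
  have hxH : x ∈ H := mem_centralizer_singleton_iff.2 hxy
  have htH : t ∈ H := mem_centralizer_singleton_iff.2 hty
  obtain ⟨K, hKn, h71, hP⟩ := hN
  have hodd : ¬ 2 ∣ Nat.card K := odd_in hx hxH h71
  set x' : H := ⟨x, hxH⟩ with hx'
  set t' : H := ⟨t, htH⟩ with ht'
  have hxo : orderOf x' = 71 := by rw [hx', Subgroup.orderOf_mk, hx]
  have hto : orderOf t' = 2 := by rw [ht', Subgroup.orderOf_mk, orderOf_ta ht]
  have hidx : ¬ 71 ∣ (zpowers x').index := by
    intro h1
    apply sq71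
    refine dvd_trans ?_ (dvd_NM H)
    rw [← (zpowers x').card_mul_index, Nat.card_zpowers, hxo, pow_two]
    exact Nat.mul_dvd_mul_left 71 h1
  have hpg : IsPGroup 71 (zpowers x') := IsPGroup.of_card (n := 1) (by rw [Nat.card_zpowers, hxo, pow_one])
  let P : Sylow 71 H := hpg.toSylow hidx
  have hPx : (P : Subgroup H) = zpowers x' := rfl
  have hn := hP P
  rw [hPx] at hn
  set X : H ⧸ K := QuotientGroup.mk x' with hX
  set T : H ⧸ K := QuotientGroup.mk t' with hT
  have h3 : T * X * T⁻¹ ∈ zpowers X := by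
    have h4 : t' * x' * t'⁻¹ ∈ zpowers x' ⊔ K := hn.conj_mem x' ((le_sup_left : zpowers x' ≤ _) (mem_zpowers x')) t'
    rw [Subgroup.mem_sup_of_normal_right] at h4
    obtain ⟨a, ⟨k, rfl⟩, b, hb, hab⟩ := h4
    refine ⟨k, ?_⟩
    have h5 : (QuotientGroup.mk b : H ⧸ K) = 1 := (QuotientGroup.eq_one_iff b).2 hb
    show X ^ k = T * X * T⁻¹
    calc X ^ k = (QuotientGroup.mk (x' ^ k) : H ⧸ K) * QuotientGroup.mk b := by rw [h5, mul_one]; rfl
      _ = QuotientGroup.mk (x' ^ k * b) := rfl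
      _ = QuotientGroup.mk (t' * x' * t'⁻¹) := congrArg _ hab
      _ = T * X * T⁻¹ := rfl
  have hXo : orderOf X = 71 := by
    apply orderOf_eq_prime
    · rw [hX, ← QuotientGroup.mk_pow, ← hxo, pow_orderOf_eq_one, QuotientGroup.mk_one]
    · intro h
      rw [hX, QuotientGroup.eq_one_iff] at h
      apply h71
      rw [← hxo]
      exact Subgroup.orderOf_dvd_natCard K h
  have htt : t' * t' = 1 := by rw [← pow_two, ← hto, pow_orderOf_eq_one]
  have hTT : T * T = 1 := by rw [hT, ← QuotientGroup.mk_mul, htt, QuotientGroup.mk_one]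
  have hTi : T⁻¹ = T := inv_eq_of_mul_eq_one_left hTT
  obtain ⟨i, hi⟩ := mem_zpowers_iff.1 h3
  have h4 : X ^ (i * i) = X := by
    rw [zpow_mul, hi, conj_zpow, hi]
    calc T * (T * X * T⁻¹) * T⁻¹ = (T * T) * X * (T * T)⁻¹ := by group
      _ = X := by rw [hTT, inv_one, one_mul, mul_one]
  have h5 : X ^ (i * i - 1) = 1 := by rw [zpow_sub, h4, zpow_one, mul_inv_cancel]
  have h6 : (71 : ℤ) ∣ (i - 1) * (i + 1) := by
    have h7 := orderOf_dvd_iff_zpow_eq_one.2 h5
    rw [hXo] at h7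
    have e : (i - 1) * (i + 1) = i * i - 1 := by ring
    rw [e]
    exact_mod_cast h7
  rcases (Nat.prime_iff_prime_int.1 p71).dvd_or_dvd h6 with h7 | h7
  · have h8 : X ^ (i - 1) = 1 := by
      rw [← orderOf_dvd_iff_zpow_eq_one, hXo]
      exact_mod_cast h7
    have h9 : T * X * T⁻¹ = X := by
      rw [← hi]
      calc X ^ i = X ^ (i - 1) * X := by rw [← zpow_add_one]; congr 1; ring
        _ = X := by rw [h8, one_mul]
    have h10 : Commute X (QuotientGroup.mk' K t') := by
      rw [mul_inv_eq_iff_eq_mul] at h9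
      exact h9.symm
    obtain ⟨c, hc, hcX⟩ := Cfsg.Agent.H190.Exc.exists_lift_comm K Nat.prime_two hodd hto h10
    have h11 : 71 ∣ orderOf (c : MG) := by
      rw [Subgroup.orderOf_coe]
      have h12 := orderOf_map_dvd (QuotientGroup.mk' K) c
      rwa [hcX, hXo] at h12
    refine not_dvd_cent (orderOf_ta ht) (h11.trans (dvd_of_comm ?_))
    exact congrArg Subtype.val hc.eq
  · have h8 : X ^ (i + 1) = 1 := by
      rw [← orderOf_dvd_iff_zpow_eq_one, hXo]
      exact_mod_cast h7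
    have h9 : T * X * T⁻¹ = X⁻¹ := by
      rw [← hi]
      apply eq_inv_of_mul_eq_one_left
      rw [← zpow_add_one, h8]
    have h10 : T * (X * T * X⁻¹) = (X * X)⁻¹ := by
      rw [hTi] at h9
      calc T * (X * T * X⁻¹) = (T * X * T) * X⁻¹ := by group
        _ = (X * X)⁻¹ := by rw [h9, mul_inv_rev]
    have h11 : orderOf (QuotientGroup.mk (t' * (x' * t' * x'⁻¹)) : H ⧸ K) = 71 := by
      have e : (QuotientGroup.mk (t' * (x' * t' * x'⁻¹)) : H ⧸ K) = T * (X * T * X⁻¹) := rfl
      rw [e, h10, orderOf_inv, ← pow_two, orderOf_pow, hXo]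
      norm_num
    have h12 : 71 ∣ orderOf (t' * (x' * t' * x'⁻¹)) := by
      rw [← h11]
      exact orderOf_map_dvd (QuotientGroup.mk' K) _
    have h13 : orderOf (t' * (x' * t' * x'⁻¹)) = orderOf (t * (x * t * x⁻¹)) := by
      rw [← Subgroup.orderOf_coe]; rfl
    have h14 := six_ta ht (ta_conj ht x)
    rw [h13] at h12
    have h15 := Nat.le_of_dvd (orderOf_pos _) h12
    omega

/-- **Pigeonhole.** -/
theorem pigeon {x : MG} (hx : orderOf x = 71) {q a b n : ℕ} (hq : q.Prime)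
    (hN : ∀ y : MG, orderOf y = q → x * y = y * x → Nice 71 ↥(centralizer ({y} : Set MG)))
    (ha : q ^ a ∣ Nat.card (centralizer ({x} : Set MG)))
    (hb : q ^ b ∣ 2 * 4154781481226426191177580544000000)
    (hn : ¬ q ^ (n + 1) ∣ NM) : a + b ≤ n := by
  have hfin := finite
  obtain ⟨d, hd⟩ := exists_ta
  by_contra hcon
  obtain ⟨g, y, hy, hy1, hy2⟩ := H199.NSmAbs.exists_common (G := MG) (N := centralizer ({x} : Set MG))
    (T := centralizer ({d} : Set MG)) hq (by rw [card_M]; exact hn) ha (by rw [card_cent_t hd]; exact hb)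
    (by omega)
  have h1 := mem_centralizer_singleton_iff.1 hy1
  have h2 := mem_centralizer_singleton_iff.1 hy2
  have h3 : TA (g⁻¹ * d * g⁻¹⁻¹) := ta_conj hd g⁻¹
  refine no_ta hx h1.symm (hN y hy h1.symm) h3 ?_
  calc g⁻¹ * d * g⁻¹⁻¹ * y = g⁻¹ * (d * (g * y * g⁻¹)) * g := by group
    _ = g⁻¹ * ((g * y * g⁻¹) * d) * g := by rw [h2]
    _ = y * (g⁻¹ * d * g⁻¹⁻¹) := by group

/-- an element of order `q` commuting with a transposition -/
theorem exists_w {q : ℕ} (hq : q.Prime) (hd : q ∣ 2 * 4154781481226426191177580544000000) :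
    ∃ w v : MG, orderOf w = q ∧ TA v ∧ v * w = w * v := by
  have := finite
  have hqf := Fact.mk hq
  obtain ⟨v, hv⟩ := exists_ta
  obtain ⟨w, hw⟩ := exists_prime_orderOf_dvd_card' (G := centralizer ({v} : Set MG)) q (by
    rw [card_cent_t hv]; exact hd)
  exact ⟨w, v, by rw [Subgroup.orderOf_coe, hw], hv, (mem_centralizer_singleton_iff.1 w.2).symm⟩

theorem not_dvd_w {q : ℕ} (hN : ∀ x y : MG, orderOf x = 71 → orderOf y = q → x * y = y * x →
    Nice 71 ↥(centralizer ({y} : Set MG))) {w v : MG} (hw : orderOf w = q) (hv : TA v) (hvw : v * w = w * v) :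
    ¬ 71 ∣ Nat.card (centralizer ({w} : Set MG)) := by
  intro h
  have := finite
  obtain ⟨u, hu⟩ := exists_prime_orderOf_dvd_card' 71 h
  have huo : orderOf (u : MG) = 71 := by rw [Subgroup.orderOf_coe, hu]
  have huw := mem_centralizer_singleton_iff.1 u.2
  exact no_ta huo huw (hN _ _ huo hw huw) hv hvw

theorem kill_q {q m : ℕ} (hq : q.Prime) (hq71 : q ≠ 71) (hq70 : ¬ q ∣ 71 - 1) (hm : ¬ q ^ (m + 1) ∣ NM)
    (hc : ((List.range (m + 1)).all fun i => Nat.beq i 0 || (q ^ i - 1) % 71 != 0) = true)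
    (hd : q ∣ 2 * 4154781481226426191177580544000000)
    (hN : ∀ x y : MG, orderOf x = 71 → orderOf y = q → x * y = y * x → Nice 71 ↥(centralizer ({y} : Set MG)))
    {x : MG} (hx : orderOf x = 71) : ¬ q ∣ Nat.card (centralizer ({x} : Set MG)) := by
  have := finite
  obtain ⟨w, v, hw, hv, hvw⟩ := exists_w hq hd
  exact kill p71 (by rw [card_M]; exact sq71) hx hq hq71 hq70 (H438.Fpr.Mon.pow_cond hm hc)
    (fun y hy hxy => hN x y hx hy hxy) hw (not_dvd_w hN hw hv hvw)

theorem nice_big (hK : AllKnown.{0}) {q : ℕ} (hq1 : q ≠ 1) (h0 : ¬ q ∣ 2 ^ 25 * 4157776806543360000) (x y : MG)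
    (hx : orderOf x = 71) (hy : orderOf y = q) (hxy : x * y = y * x) : Nice 71 ↥(centralizer ({y} : Set MG)) :=
  nice_noZ hK hx (ne_one_of_ord hq1 hy) hxy (noZ_of h0 hy)

section Primes

variable {x : MG}

theorem no_of_comm {q : ℕ} (hq : q.Prime) (h : ∀ y : MG, orderOf y = q → ¬ 71 ∣ Nat.card (centralizer ({y} : Set MG)))
    (hx : orderOf x = 71) : ¬ q ∣ Nat.card (centralizer ({x} : Set MG)) := by
  have hfin := finite
  have hqf := Fact.mk hq
  intro hd
  obtain ⟨y, hy⟩ := exists_prime_orderOf_dvd_card' q hd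
  apply h (y : MG) (by rw [Subgroup.orderOf_coe, hy])
  rw [← hx]
  exact dvd_of_comm (mem_centralizer_singleton_iff.1 y.2).symm

theorem n2 (hx : orderOf x = 71) : ¬ 2 ∣ Nat.card (centralizer ({x} : Set MG)) :=
  no_of_comm Nat.prime_two (fun _ ht => not_dvd_cent ht) hx

theorem n3 (hx : orderOf x = 71) : ¬ 3 ∣ Nat.card (centralizer ({x} : Set MG)) :=
  kill_q (m := 20) Nat.prime_three (by norm_num) (by norm_num) (by norm_num) (by decide +kernel) (by norm_num)
    (fun _ _ => nice_three) hx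

theorem n11 (hx : orderOf x = 71) : ¬ 11 ∣ Nat.card (centralizer ({x} : Set MG)) :=
  no_of_comm (by norm_num) (fun _ ht => H199.AbMon.eleven_not_dvd (by simp) ht) hx

theorem n13 (hK : AllKnown.{0}) (hx : orderOf x = 71) : ¬ 13 ∣ Nat.card (centralizer ({x} : Set MG)) :=
  kill_q (m := 3) (by norm_num) (by norm_num) (by norm_num) (by norm_num) (by decide +kernel) (by norm_num)
    (fun _ _ => nice_thirteen hK) hx

theorem n17 (hK : AllKnown.{0}) (hx : orderOf x = 71) : ¬ 17 ∣ Nat.card (centralizer ({x} : Set MG)) :=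
  kill_q (m := 1) (by norm_num) (by norm_num) (by norm_num) (by norm_num) (by decide +kernel) (by norm_num)
    (nice_big hK (by norm_num) (by norm_num)) hx

theorem n19 (hK : AllKnown.{0}) (hx : orderOf x = 71) : ¬ 19 ∣ Nat.card (centralizer ({x} : Set MG)) :=
  kill_q (m := 1) (by norm_num) (by norm_num) (by norm_num) (by norm_num) (by decide +kernel) (by norm_num)
    (nice_big hK (by norm_num) (by norm_num)) hx

theorem n31 (hK : AllKnown.{0}) (hx : orderOf x = 71) : ¬ 31 ∣ Nat.card (centralizer ({x} : Set MG)) :=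
  kill_q (m := 1) (by norm_num) (by norm_num) (by norm_num) (by norm_num) (by decide +kernel) (by norm_num)
    (nice_big hK (by norm_num) (by norm_num)) hx

theorem n47 (hK : AllKnown.{0}) (hx : orderOf x = 71) : ¬ 47 ∣ Nat.card (centralizer ({x} : Set MG)) :=
  kill_q (m := 1) (by norm_num) (by norm_num) (by norm_num) (by norm_num) (by decide +kernel) (by norm_num)
    (nice_big hK (by norm_num) (by norm_num)) hx

theorem n59 (hK : AllKnown.{0}) (hx : orderOf x = 71) : ¬ 59 ∣ Nat.card (centralizer ({x} : Set MG)) :=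
  no_of_comm (by norm_num) (fun _ ht => by
    rw [(H58.Cop.M.norm_fiftynine hK ht).1]
    norm_num) hx

end Primes

end B

set_option synthInstance.maxHeartbeats 400000 in
set_option synthInstance.maxSize 2000 in
theorem chkA : ∀ a < 4, ∀ b < 5, ∀ g < 2, ∀ e ∈ ([2, 5, 7, 10, 14, 35, 70] : List ℕ),
    (NM % (71 * (5 ^ a * (7 ^ b * 41 ^ g)) * e) = 0 ∧
    NM / (71 * (5 ^ a * (7 ^ b * 41 ^ g)) * e) % 71 = 1) →
    (5 ^ a * (7 ^ b * 41 ^ g) = 1 ∧ e = 35) ∨ (5 ^ a * (7 ^ b * 41 ^ g) = 5 ∧ e = 7) ∨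
      (5 ^ a * (7 ^ b * 41 ^ g) = 7 ∧ e = 5) ∨ 5 ^ a * (7 ^ b * 41 ^ g) = 14063 := by
  decide +kernel

theorem chkE : ∀ e < 71, e ∣ 70 → e ≠ 1 → e ∈ ([2, 5, 7, 10, 14, 35, 70] : List ℕ) := by decide +kernel

theorem e_of {c q k : ℕ} (hq : q.Prime) (hn : ¬ q ^ (k + 1) ∣ NM) (hc : c ∣ NM) (hc0 : c ≠ 0) :
    c.factorization q ≤ k := by
  by_contra h
  exact hn (((hq.pow_dvd_iff_le_factorization hc0).2 (by omega)).trans hc)

/-- the four cases -/
theorem cases (hK : AllKnown.{0}) (h23 : ∀ y : MG, orderOf y = 23 → ¬ 71 ∣ Nat.card (centralizer ({y} : Set MG)))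
    (h29 : ∀ y : MG, orderOf y = 29 → ¬ 71 ∣ Nat.card (centralizer ({y} : Set MG))) {x : MG} (hx : orderOf x = 71) :
    (Nat.card (centralizer ({x} : Set MG)) = 71 ∧
        Nat.card (normalizer ((zpowers x : Subgroup MG) : Set MG)) = 71 * 35) ∨
      (Nat.card (centralizer ({x} : Set MG)) = 71 * 5 ∧
        Nat.card (normalizer ((zpowers x : Subgroup MG) : Set MG)) = 71 * 5 * 7) ∨
      (Nat.card (centralizer ({x} : Set MG)) = 71 * 7 ∧
        Nat.card (normalizer ((zpowers x : Subgroup MG) : Set MG)) = 71 * 7 * 5) := by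
  have hfin := finite
  have hs := simple
  obtain ⟨e, he, he1, hN, h0, h1⟩ := Cfsg.Agent.H58.Cop.arith (s := 71) p71 hx (by rw [card_M]; norm_num)
    (by rw [card_M]; norm_num)
  rw [hN]
  set c := Nat.card (centralizer ({x} : Set MG)) with hc
  have hc0 : c ≠ 0 := Nat.card_pos.ne'
  have hcM : c ∣ NM := dvd_NM _
  have h71 : 71 ∣ c := by
    rw [← hx]
    exact dvd_of_comm rfl
  have k23 : ¬ 23 ∣ c := no_of_comm (by norm_num) h23 hx
  have k29 : ¬ 29 ∣ c := no_of_comm (by norm_num) h29 hx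
  have hprimes : ∀ q, q.Prime → q ∣ c → q ∈ ({71, 5, 7, 41} : Finset ℕ) := by
    intro q hq hd
    have h1 := Cfsg.Agent.H58.Cop.M.mem_primes hq (hd.trans hcM)
    simp only [List.mem_cons, List.not_mem_nil, or_false] at h1
    have h2 : ∀ r ∈ ([2, 3, 11, 13, 17, 19, 23, 29, 31, 47, 59] : List ℕ), q ≠ r := by
      rintro r hr rfl
      simp only [List.mem_cons, List.not_mem_nil, or_false] at hr
      rcases hr with rfl | rfl | rfl | rfl | rfl | rfl | rfl | rfl | rfl | rfl | rfl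
      · exact n2 hx hd
      · exact n3 hx hd
      · exact n11 hx hd
      · exact n13 hK hx hd
      · exact n17 hK hx hd
      · exact n19 hK hx hd
      · exact k23 hd
      · exact k29 hd
      · exact n31 hK hx hd
      · exact n47 hK hx hd
      · exact n59 hK hx hd
    simp only [List.mem_cons, List.not_mem_nil, or_false, forall_eq_or_imp, forall_eq] at h2
    simp only [Finset.mem_insert, Finset.mem_singleton]
    omega
  have e71 : c.factorization 71 = 1 := H87.MP.fact_eq p71 hc0 (by rw [pow_one]; exact h71) fun h => by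
    have := h.trans hcM
    norm_num at this
  have e41 : c.factorization 41 ≤ 1 := e_of (by norm_num) (by norm_num) hcM hc0
  have e5 : c.factorization 5 ≤ 3 := by
    have h1 := pigeon (q := 5) (a := c.factorization 5) (b := 6) (n := 9) hx (by norm_num)
      (fun y hy => nice_five hx hy) (Nat.ordProj_dvd _ _) (by norm_num) (by norm_num)
    omega
  have e7 : c.factorization 7 ≤ 4 := by
    have h1 := pigeon (q := 7) (a := c.factorization 7) (b := 2) (n := 6) hx (by norm_num)
      (fun y hy => nice_seven hx hy) (Nat.ordProj_dvd _ _) (by norm_num) (by norm_num)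
    omega
  have hcc : c = 71 * (5 ^ c.factorization 5 * (7 ^ c.factorization 7 * 41 ^ c.factorization 41)) := by
    conv_lhs => rw [H87.MP.eq_prod hc0 _ hprimes]
    rw [Finset.prod_insert (by decide), Finset.prod_insert (by decide), Finset.prod_insert (by decide),
      Finset.prod_singleton, e71, pow_one]
  rw [card_M] at h0 h1
  have he70 : e ≤ 70 := Nat.le_of_dvd (by norm_num) he
  have key := chkA _ (show c.factorization 5 < 4 by omega) _ (show c.factorization 7 < 5 by omega) _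
    (show c.factorization 41 < 2 by omega) e (chkE e (by omega) he he1)
    ⟨by rw [← hcc]; exact Nat.mod_eq_zero_of_dvd h0, by rw [← hcc]; exact h1⟩
  rcases key with ⟨h, he⟩ | ⟨h, he⟩ | ⟨h, he⟩ | h
  · left
    rw [h, mul_one] at hcc
    rw [hcc, he]
    exact ⟨rfl, rfl⟩
  · right; left
    rw [h] at hcc
    rw [hcc, he]
    exact ⟨rfl, rfl⟩
  · right; right
    rw [h] at hcc
    rw [hcc, he]
    exact ⟨rfl, rfl⟩
  · exfalso
    rw [h] at hcc
    exact H87.MP.kill hcc

/-! ### the normal subgroup of `C(y)` -/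

/-- a normal `71'`-subgroup `K` containing `y`, with `P K` normal -/
theorem exists_K {y : MG} {q : ℕ} (hq : q.Prime) (hq71 : q ≠ 71) (hy : orderOf y = q) {X : Subgroup MG} (hyX : y ∈ X)
    (hcen : ∀ g ∈ X, g * y = y * g) (hN : Nice 71 ↥X) :
    ∃ (K : Subgroup ↥X) (_ : K.Normal), ¬ 71 ∣ Nat.card K ∧ (⟨y, hyX⟩ : X) ∈ K ∧
      ∀ P : Sylow 71 ↥X, ((P : Subgroup ↥X) ⊔ K).Normal := by
  have hfin := finite
  obtain ⟨K, hKn, h71, hP⟩ := hN
  set y' : X := ⟨y, hyX⟩ with hy'
  have hyn : (zpowers y').Normal := by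
    refine ⟨?_⟩
    rintro _ ⟨k, rfl⟩ g
    have h1 : g * y' = y' * g := Subtype.ext (hcen g g.2)
    have h2 : g * y' ^ k * g⁻¹ = y' ^ k := by
      rw [mul_inv_eq_iff_eq_mul]
      exact ((show Commute g y' from h1).zpow_right k).eq
    show g * y' ^ k * g⁻¹ ∈ zpowers y'
    rw [h2]
    exact ⟨k, rfl⟩
  refine ⟨K ⊔ zpowers y', inferInstance, ?_, (le_sup_right : zpowers y' ≤ _) (mem_zpowers y'), fun P => ?_⟩
  · intro h
    have h1 : Nat.card ↥(K ⊔ zpowers y') ∣ Nat.card K * Nat.card (zpowers y') := by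
      have := Subgroup.card_mul_index (K.subgroupOf (K ⊔ zpowers y'))
      have h2 : (K.subgroupOf (K ⊔ zpowers y')).index ∣ Nat.card (zpowers y') := by
        have h3 : K.relIndex (K ⊔ zpowers y') = K.relIndex (zpowers y') := by
          rw [Subgroup.relIndex_sup_left]
        show K.relIndex (K ⊔ zpowers y') ∣ _
        rw [h3]
        exact Subgroup.relIndex_dvd_card K (zpowers y')
      rw [← this, Nat.card_congr (subgroupOfEquivOfLe (le_sup_left : K ≤ K ⊔ zpowers y')).toEquiv]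
      exact Nat.mul_dvd_mul_left _ h2
    rcases p71.dvd_mul.1 (h.trans h1) with h2 | h2
    · exact h71 h2
    · rw [Nat.card_zpowers, hy', Subgroup.orderOf_mk, hy] at h2
      exact hq71 ((Nat.prime_dvd_prime_iff_eq p71 hq).1 h2).symm
  · have h1 := hP P
    rw [← sup_assoc]
    infer_instance

/-- **Frattini** -/
theorem frattini {X : Type*} [Group X] [Finite X] {K : Subgroup X} [K.Normal] {x : X} (hx : orderOf x = 71)
    (h2 : ¬ 71 ^ 2 ∣ Nat.card X) (hP : ∀ P : Sylow 71 X, ((P : Subgroup X) ⊔ K).Normal) :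
    Nat.card ↥(K ⊓ normalizer ((zpowers x : Subgroup X) : Set X)) * K.index =
      Nat.card (normalizer ((zpowers x : Subgroup X) : Set X)) := by
  have hidx : ¬ 71 ∣ (zpowers x).index := by
    intro h1
    apply h2
    rw [← (zpowers x).card_mul_index, Nat.card_zpowers, hx, pow_two]
    exact Nat.mul_dvd_mul_left 71 h1
  have hpg : IsPGroup 71 (zpowers x) := IsPGroup.of_card (n := 1) (by rw [Nat.card_zpowers, hx, pow_one])
  let P : Sylow 71 X := hpg.toSylow hidx
  have hPx : (P : Subgroup X) = zpowers x := rfl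
  have hT := hP P
  set T : Subgroup X := (P : Subgroup X) ⊔ K with hTdef
  have hPT : (P : Subgroup X) ≤ T := le_sup_left
  set N : Subgroup X := normalizer ((P : Subgroup X) : Set X) with hNdef
  have hF : N ⊔ K = ⊤ := by
    have h3 := Sylow.normalizer_sup_eq_top (P.subtype hPT)
    have h4 : ((P.subtype hPT : Sylow 71 T) : Subgroup T).map T.subtype = (P : Subgroup X) := by
      rw [Sylow.coe_subtype, subgroupOf_map_subtype, inf_eq_left.2 hPT]
    rw [h4] at h3
    rw [eq_top_iff, ← h3]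
    refine sup_le le_sup_left ?_
    rw [hTdef]
    exact sup_le (le_trans le_normalizer le_sup_left) le_sup_right
  have e1 : K.index = K.relIndex N := by
    rw [← relIndex_top_right, ← hF, sup_comm, relIndex_sup_left]
  have h5 : Nat.card ↥(K ⊓ N) * K.relIndex N = Nat.card N := by
    have h6 := (K.subgroupOf N).card_mul_index
    rw [← Subgroup.relIndex] at h6
    rw [← h6]
    congr 1
    rw [← card_map_of_injective N.subtype_injective, subgroupOf_map_subtype]
  rw [e1]
  exact h5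

/-- the index of `K` -/
theorem index_dvd {x y : MG} {q m : ℕ} (hq : q.Prime) (hx : orderOf x = 71) (hy : orderOf y = q) (hxy : x * y = y * x)
    (hNc : Nat.card (normalizer ((zpowers x : Subgroup MG) : Set MG)) = q * m)
    {H : Subgroup MG} (hxH : x ∈ H) (hyH : y ∈ H) {K : Subgroup ↥H} [hKn : K.Normal]
    (hyK : (⟨y, hyH⟩ : H) ∈ K) (hP : ∀ P : Sylow 71 ↥H, ((P : Subgroup ↥H) ⊔ K).Normal) : K.index ∣ m := by
  have hfin := finite
  set x' : H := ⟨x, hxH⟩ with hx'
  set y' : H := ⟨y, hyH⟩ with hy'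
  have hxo : orderOf x' = 71 := by rw [hx', Subgroup.orderOf_mk, hx]
  have hyo : orderOf y' = q := by rw [hy', Subgroup.orderOf_mk, hy]
  have hF := frattini (K := K) hxo (fun h => sq71 (h.trans (dvd_NM H))) hP
  have h1 : Nat.card (normalizer ((zpowers x' : Subgroup H) : Set H)) ∣ q * m := by
    rw [← hNc, ← card_map_of_injective H.subtype_injective]
    refine card_dvd_of_le ?_
    rintro _ ⟨n, hn, rfl⟩
    apply H87.MP.mem_normalizer_of
    rintro _ ⟨k, rfl⟩
    have h2 := (mem_normalizer_iff.1 hn (x' ^ k)).1 ⟨k, rfl⟩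
    obtain ⟨j, hj⟩ := h2
    exact ⟨j, congrArg Subtype.val hj⟩
  have h2 : q ∣ Nat.card ↥(K ⊓ normalizer ((zpowers x' : Subgroup H) : Set H)) := by
    rw [← hyo]
    refine Subgroup.orderOf_dvd_natCard _ ⟨hyK, ?_⟩
    have h3 : y' ∈ centralizer ((zpowers x' : Subgroup H) : Set H) := by
      rw [mem_centralizer_iff]
      rintro _ ⟨k, rfl⟩
      have h4 : Commute x' y' := Subtype.ext hxy
      exact (h4.zpow_left k).eq
    exact centralizer_le_normalizer _ h3
  obtain ⟨k, hk⟩ := h2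
  rw [← hF, hk, mul_assoc] at h1
  exact (Dvd.intro_left k rfl).trans (Nat.dvd_of_mul_dvd_mul_left hq.pos h1)

theorem cond_q {q m : ℕ} (hm : ¬ q ^ (m + 1) ∣ NM)
    (h : ((List.range (m + 1)).all fun i => Nat.beq i 0 || (q ^ i - 1) % 71 != 0) = true) {X : Subgroup MG}
    (K : Subgroup X) : ∀ i, 1 ≤ i → q ^ i ∣ Nat.card K → ¬ 71 ∣ q ^ i - 1 := by
  have hfin := finite
  intro i hi hd
  exact H438.Fpr.Mon.pow_cond hm h i hi ((hd.trans (card_subgroup_dvd_card K)).trans (card_subgroup_dvd_card X))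

theorem inf_dvd {x : MG} {H : Subgroup MG} (hxH : x ∈ H) (K : Subgroup H) :
    Nat.card ↥(K ⊓ centralizer ({(⟨x, hxH⟩ : H)} : Set H)) ∣ Nat.card (centralizer ({x} : Set MG)) := by
  have hfin := finite
  rw [← card_map_of_injective H.subtype_injective]
  refine card_dvd_of_le ?_
  rintro _ ⟨n, hn, rfl⟩
  exact mem_centralizer_singleton_iff.2 (congrArg Subtype.val (mem_centralizer_singleton_iff.1 hn.2))

/-- **The case `|C(x)| = 71 · 7` is impossible.** -/
theorem not_seven {x : MG} (hx : orderOf x = 71) (hc : Nat.card (centralizer ({x} : Set MG)) = 71 * 7)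
    (hN : Nat.card (normalizer ((zpowers x : Subgroup MG) : Set MG)) = 71 * 7 * 5) : False := by
  have hfin := finite
  have h7 : Nat.Prime 7 := by norm_num
  have hf7 := Fact.mk h7
  obtain ⟨y0, hy0⟩ := exists_prime_orderOf_dvd_card' (G := centralizer ({x} : Set MG)) 7 (by rw [hc]; norm_num)
  obtain ⟨y, hydef⟩ : ∃ y : MG, y = y0 := ⟨_, rfl⟩
  have hy : orderOf y = 7 := by rw [hydef, Subgroup.orderOf_coe, hy0]
  have hxy : x * y = y * x := by rw [hydef]; exact (mem_centralizer_singleton_iff.1 y0.2).symm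
  obtain ⟨H, hH⟩ : ∃ H : Subgroup MG, H = centralizer ({y} : Set MG) := ⟨_, rfl⟩
  have hxH : x ∈ H := by rw [hH]; exact mem_centralizer_singleton_iff.2 hxy
  have hyH : y ∈ H := by rw [hH]; exact mem_centralizer_singleton_iff.2 rfl
  have hcen : ∀ g ∈ H, g * y = y * g := fun g hg => by
    rw [hH] at hg
    exact mem_centralizer_singleton_iff.1 hg
  obtain ⟨K, hKn, h71, hyK, hP⟩ := exists_K h7 (by norm_num) hy hyH hcen (by rw [hH]; exact nice_seven hx hy hxy)
  have hidx := index_dvd (m := 355) h7 hx hy hxy (by rw [hN]) hxH hyH hyK hP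
  have h49 : 7 ^ 2 ∣ Nat.card H := by
    rw [hH]
    exact BpMon.Thirteen.sq_dvd_cent h7 (by rw [card_M]; norm_num) hy
  have h1 : 7 ^ 2 ∣ Nat.card K := by
    rw [← K.card_mul_index] at h49
    have h2 : Nat.Coprime (7 ^ 2) K.index := by
      refine Nat.Coprime.pow_left 2 ((Nat.Prime.coprime_iff_not_dvd h7).2 fun h => ?_)
      have := h.trans hidx
      norm_num at this
    exact h2.dvd_of_dvd_mul_right h49
  have hx1 : (⟨x, hxH⟩ : H) ^ 71 = 1 := Subtype.ext (by
    change x ^ 71 = 1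
    rw [← hx, pow_orderOf_eq_one])
  have h2 := Cfsg.Agent.H995.CopEngine.pow_dvd_cent p71 K h71 hx1 h7 (by norm_num) h1
    (cond_q (m := 6) (by norm_num) (by decide +kernel) K)
  have h4 := h2.trans (inf_dvd hxH K)
  rw [hc] at h4
  norm_num at h4

theorem p5 : Nat.Prime 5 := by norm_num

instance fact5 : Fact (Nat.Prime 5) := ⟨p5⟩

/-- the elements of order 5 of `C(x)` are in `⟨y⟩` -/
theorem mem_y {x y b : MG} (hx : orderOf x = 71) (hy : orderOf y = 5) (hxy : x * y = y * x)
    (hc : Nat.card (centralizer ({x} : Set MG)) = 71 * 5) (hb : b * x = x * b) (hb5 : b ^ 5 = 1) : b ∈ zpowers y := by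
  have hfin := finite
  obtain ⟨C, hC⟩ : ∃ C : Subgroup MG, C = centralizer ({x} : Set MG) := ⟨_, rfl⟩
  rw [← hC] at hc
  have hxC : x ∈ C := by rw [hC]; exact mem_centralizer_singleton_iff.2 rfl
  have hyC : y ∈ C := by rw [hC]; exact mem_centralizer_singleton_iff.2 hxy.symm
  have hbC : b ∈ C := by rw [hC]; exact mem_centralizer_singleton_iff.2 hb
  set x' : C := ⟨x, hxC⟩ with hx'
  set y' : C := ⟨y, hyC⟩ with hy'
  set b' : C := ⟨b, hbC⟩ with hb'
  have hyo : orderOf y' = 5 := by rw [hy', Subgroup.orderOf_mk, hy]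
  have hxo : orderOf x' = 71 := by rw [hx', Subgroup.orderOf_mk, hx]
  have hcy : Nat.card (zpowers y') = 5 := by rw [Nat.card_zpowers, hyo]
  have hidx : ¬ 5 ∣ (zpowers y').index := by
    intro h
    have h1 : 5 * 5 ∣ Nat.card C := by
      rw [← (zpowers y').card_mul_index, hcy]
      exact Nat.mul_dvd_mul_left 5 h
    rw [hc] at h1
    norm_num at h1
  have hpg : IsPGroup 5 (zpowers y') := IsPGroup.of_card (n := 1) (by rw [hcy, pow_one])
  let P : Sylow 5 C := hpg.toSylow hidx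
  have hN : normalizer ((zpowers y' : Subgroup C) : Set C) = ⊤ := by
    apply Subgroup.eq_top_of_card_eq
    apply Nat.dvd_antisymm (Subgroup.card_subgroup_dvd_card _)
    rw [hc]
    refine Nat.Coprime.mul_dvd_of_dvd_of_dvd (by norm_num) ?_ ?_
    · rw [← hxo]
      refine Subgroup.orderOf_dvd_natCard _ ?_
      apply centralizer_le_normalizer
      rw [mem_centralizer_iff]
      rintro _ ⟨k, rfl⟩
      have h4 : Commute y' x' := Subtype.ext hxy.symm
      exact (h4.zpow_left k).eq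
    · rw [← hyo]
      exact Subgroup.orderOf_dvd_natCard _ (le_normalizer (mem_zpowers y'))
  have hPn : (P : Subgroup C).Normal := Subgroup.normalizer_eq_top_iff.1 hN
  have hbp : IsPGroup 5 (zpowers b') := by
    intro g
    refine ⟨1, ?_⟩
    obtain ⟨k, hk⟩ := g.2
    apply Subtype.ext
    rw [pow_one]
    change (g : C) ^ 5 = 1
    have h1 : b' ^ 5 = 1 := Subtype.ext hb5
    rw [← hk]
    change (b' ^ k) ^ 5 = 1
    rw [← zpow_natCast, ← zpow_mul, mul_comm, zpow_mul, zpow_natCast, h1, one_zpow]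
  obtain ⟨Q, hQ⟩ := hbp.exists_le_sylow
  have hQP : Q = P := by
    have := Sylow.unique_of_normal P hPn
    exact Subsingleton.elim Q P
  rw [hQP] at hQ
  obtain ⟨k, hk⟩ := hQ (mem_zpowers b')
  exact ⟨k, congrArg Subtype.val hk⟩

theorem chk5 : ∀ j < 5, j ^ 7 % 5 = 1 → j = 1 := by decide

/-- `u` of order 7 normalizing `⟨x⟩` commutes with `y` -/
theorem comm_u {x y u : MG} (hx : orderOf x = 71) (hy : orderOf y = 5) (hxy : x * y = y * x)
    (hc : Nat.card (centralizer ({x} : Set MG)) = 71 * 5) (hu : u ^ 7 = 1)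
    (huN : u ∈ normalizer ((zpowers x : Subgroup MG) : Set MG)) : u * y = y * u := by
  have hfin := finite
  have h1 : (u * y * u⁻¹) * x = x * (u * y * u⁻¹) := by
    have h2 : u⁻¹ * x * u ∈ zpowers x := by
      have := (mem_normalizer_iff.1 (inv_mem huN) x).1 (mem_zpowers x)
      rwa [inv_inv] at this
    obtain ⟨k, hk⟩ := h2
    have hk' : x ^ k = u⁻¹ * x * u := hk
    have h3 : y * (u⁻¹ * x * u) = (u⁻¹ * x * u) * y := by
      rw [← hk']
      exact ((show Commute y x from hxy.symm).zpow_right k).eq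
    calc (u * y * u⁻¹) * x = u * (y * (u⁻¹ * x * u)) * u⁻¹ := by group
      _ = u * ((u⁻¹ * x * u) * y) * u⁻¹ := by rw [h3]
      _ = x * (u * y * u⁻¹) := by group
  have h2 : (u * y * u⁻¹) ^ 5 = 1 := by rw [conj_pow, ← hy, pow_orderOf_eq_one, mul_one, mul_inv_cancel]
  obtain ⟨j0, hj0⟩ := mem_y hx hy hxy hc h1 h2
  -- a natural exponent
  obtain ⟨j, hj5, hj⟩ : ∃ j : ℕ, j < 5 ∧ u * y * u⁻¹ = y ^ j := by
    refine ⟨(j0 % 5).toNat, ?_, ?_⟩
    · have := Int.emod_lt_of_pos j0 (show (0:ℤ) < 5 by norm_num)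
      have := Int.emod_nonneg j0 (show (5:ℤ) ≠ 0 by norm_num)
      omega
    · rw [← zpow_natCast, Int.toNat_of_nonneg (Int.emod_nonneg j0 (by norm_num))]
      have h3 : y ^ j0 = u * y * u⁻¹ := hj0
      rw [← h3]
      have h4 : ((5 : ℕ) : ℤ) = (orderOf y : ℤ) := by rw [hy]
      have h5 := zpow_mod_orderOf y j0
      rw [hy] at h5
      exact h5.symm
  have hn : ∀ n : ℕ, u ^ n * y * (u ^ n)⁻¹ = y ^ (j ^ n) := by
    intro n
    induction n with
    | zero => rw [pow_zero, pow_zero, pow_one, one_mul, inv_one, mul_one]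
    | succ n ih =>
      rw [pow_succ']
      calc u * u ^ n * y * (u * u ^ n)⁻¹ = u * (u ^ n * y * (u ^ n)⁻¹) * u⁻¹ := by group
        _ = u * y ^ (j ^ n) * u⁻¹ := by rw [ih]
        _ = (u * y * u⁻¹) ^ (j ^ n) := by rw [conj_pow]
        _ = y ^ (j ^ (n + 1)) := by rw [hj, ← pow_mul, pow_succ', mul_comm]
  have h3 := hn 7
  rw [hu, one_mul, inv_one, mul_one] at h3
  have h4 : j ^ 7 % 5 = 1 := by
    have h5 : y ^ (j ^ 7) = y ^ 1 := by rw [pow_one]; exact h3.symm
    rw [pow_eq_pow_iff_modEq, hy] at h5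
    exact h5
  have h5 := chk5 j hj5 h4
  rw [h5, pow_one] at hj
  rwa [mul_inv_eq_iff_eq_mul] at hj

theorem chkK : ∀ k < 10, (5 : ℕ) ^ k % 71 = 5 → k = 1 ∨ k = 6 := by decide +kernel

/-- the primes different from 2 and 5 do not divide `|K|` -/
theorem only_five {x : MG} (hx : orderOf x = 71) (hc : Nat.card (centralizer ({x} : Set MG)) = 71 * 5)
    {H : Subgroup MG} (hxH : x ∈ H) {K : Subgroup ↥H} [hKn : K.Normal] (h71 : ¬ 71 ∣ Nat.card K) :
    ∃ k < 10, Nat.card K = 5 ^ k := by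
  have hfin := finite
  have hKM : Nat.card K ∣ NM := (card_subgroup_dvd_card K).trans (dvd_NM H)
  have hx1 : (⟨x, hxH⟩ : H) ^ 71 = 1 := Subtype.ext (by
    change x ^ 71 = 1
    rw [← hx, pow_orderOf_eq_one])
  have key : ∀ (q m : ℕ), q.Prime → q ≠ 71 → q ≠ 5 → ¬ q ^ (m + 1) ∣ NM →
      ((List.range (m + 1)).all fun i => Nat.beq i 0 || (q ^ i - 1) % 71 != 0) = true → ¬ q ∣ Nat.card K := by
    intro q m hq hq71 hq5 hm h hd
    have h2 := Cfsg.Agent.H995.CopEngine.pow_dvd_cent p71 K h71 hx1 hq hq71 (k := 1) (by rwa [pow_one]) (cond_q hm h K)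
    have h3 := h2.trans (inf_dvd hxH K)
    rw [hc, pow_one] at h3
    rcases hq.dvd_mul.1 h3 with h4 | h4
    · exact hq71 ((Nat.prime_dvd_prime_iff_eq hq p71).1 h4)
    · exact hq5 ((Nat.prime_dvd_prime_iff_eq hq p5).1 h4)
  have h1 : ∀ q, q.Prime → q ∣ Nat.card K → q = 5 := by
    intro q hq hd
    have h2 := Cfsg.Agent.H58.Cop.M.mem_primes hq (hd.trans hKM)
    simp only [List.mem_cons, List.not_mem_nil, or_false] at h2
    rcases h2 with rfl | rfl | rfl | rfl | rfl | rfl | rfl | rfl | rfl | rfl | rfl | rfl | rfl | rfl | rfl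
    · exact absurd hd (odd_in hx hxH h71)
    · exact absurd hd (key 3 20 (by norm_num) (by norm_num) (by norm_num) (by norm_num) (by decide +kernel))
    · rfl
    · exact absurd hd (key 7 6 (by norm_num) (by norm_num) (by norm_num) (by norm_num) (by decide +kernel))
    · exact absurd hd (key 11 2 (by norm_num) (by norm_num) (by norm_num) (by norm_num) (by decide +kernel))
    · exact absurd hd (key 13 3 (by norm_num) (by norm_num) (by norm_num) (by norm_num) (by decide +kernel))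
    · exact absurd hd (key 17 1 (by norm_num) (by norm_num) (by norm_num) (by norm_num) (by decide +kernel))
    · exact absurd hd (key 19 1 (by norm_num) (by norm_num) (by norm_num) (by norm_num) (by decide +kernel))
    · exact absurd hd (key 23 1 (by norm_num) (by norm_num) (by norm_num) (by norm_num) (by decide +kernel))
    · exact absurd hd (key 29 1 (by norm_num) (by norm_num) (by norm_num) (by norm_num) (by decide +kernel))
    · exact absurd hd (key 31 1 (by norm_num) (by norm_num) (by norm_num) (by norm_num) (by decide +kernel))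
    · exact absurd hd (key 41 1 (by norm_num) (by norm_num) (by norm_num) (by norm_num) (by decide +kernel))
    · exact absurd hd (key 47 1 (by norm_num) (by norm_num) (by norm_num) (by norm_num) (by decide +kernel))
    · exact absurd hd (key 59 1 (by norm_num) (by norm_num) (by norm_num) (by norm_num) (by decide +kernel))
    · exact absurd hd h71
  have h0 : Nat.card K ≠ 0 := Nat.card_pos.ne'
  have h2 := Nat.eq_prime_pow_of_unique_prime_dvd h0 (fun {d} hd hdK => h1 d hd hdK)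
  refine ⟨(Nat.card K).primeFactorsList.length, ?_, h2⟩
  by_contra hlt
  have h3 : 5 ^ 10 ∣ NM := by
    refine dvd_trans ?_ hKM
    rw [h2]
    exact pow_dvd_pow 5 (by omega)
  norm_num at h3

/-- an element of order 7 of `H` centralizes `K / ⟨y⟩` -/
theorem central_mod {H : Subgroup MG} {y' u' : H} {K : Subgroup H} [hKn : K.Normal] [hyn : (zpowers y').Normal]
    (hy : orderOf y' = 5) (hyK : y' ∈ K) (hK : Nat.card K = 5 ^ 6) (hu : u' ^ 7 = 1) :
    ∀ k ∈ K, (QuotientGroup.mk u' : H ⧸ zpowers y') * QuotientGroup.mk k = QuotientGroup.mk k * QuotientGroup.mk u' := by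
  have hfin := finite
  set Z := zpowers y' with hZ
  have hZK : Z ≤ K := by rwa [hZ, zpowers_le]
  set Kb : Subgroup (H ⧸ Z) := K.map (QuotientGroup.mk' Z) with hKb
  have hKbn : Kb.Normal := hKn.map _ (QuotientGroup.mk'_surjective Z)
  have hcard : Nat.card Kb = 5 ^ 5 := by
    have h1 : Nat.card Kb * Nat.card Z = Nat.card K := by
      have h2 := (Z.subgroupOf K).card_mul_index
      rw [Nat.card_congr (subgroupOfEquivOfLe hZK).toEquiv] at h2
      rw [← h2, mul_comm]
      congr 1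
      have h3 : (Z.subgroupOf K).index = Z.relIndex K := rfl
      rw [h3]
      have h5 : Nat.card Kb = (⊥ : Subgroup (H ⧸ Z)).relIndex Kb := (Subgroup.relIndex_bot_left Kb).symm
      rw [h5, hKb]
      have h6 := Subgroup.relIndex_comap (⊥ : Subgroup (H ⧸ Z)) (QuotientGroup.mk' Z) K
      rw [← h6]
      congr 1
      rw [MonoidHom.comap_bot, QuotientGroup.ker_mk']
    have hZc : Nat.card Z = 5 := by rw [hZ, Nat.card_zpowers, hy]
    rw [hK, hZc] at h1
    have h7 : (5 : ℕ) ^ 6 = 5 ^ 5 * 5 := by norm_num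
    rw [h7] at h1
    exact Nat.eq_of_mul_eq_mul_right (by norm_num) h1
  have h1 := Cfsg.Agent.H58.Cop.core_le (r := 7) (by norm_num) Kb (by rw [hcard]; norm_num) (by
    intro p hp i hi hd h7
    rw [hcard] at hd
    have hp5 : p = 5 := (Nat.prime_dvd_prime_iff_eq hp p5).1 (hp.dvd_of_dvd_pow ((dvd_pow_self p (by omega)).trans hd))
    subst hp5
    have hi5 : i ≤ 5 := (Nat.pow_dvd_pow_iff_le_right (by norm_num : 1 < 5)).1 hd
    interval_cases i <;> norm_num at h7) (w := (QuotientGroup.mk u' : H ⧸ Z)) (by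
    rw [← QuotientGroup.mk_pow, hu, QuotientGroup.mk_one])
  intro k hk
  have h2 : (QuotientGroup.mk k : H ⧸ Z) ∈ Kb := ⟨k, hk, rfl⟩
  exact (mem_centralizer_singleton_iff.1 (h1 h2)).symm

/-- `x` centralizes `K` if `u` centralizes `K / ⟨y⟩` -/
theorem comm_of_mod {H : Subgroup MG} {x' y' u' : H} {K : Subgroup H} [hKn : K.Normal] [hyn : (zpowers y').Normal]
    (hx : orderOf x' = 71) (hy : orderOf y' = 5) (hxy : x' * y' = y' * x')
    (hmod : ∀ k ∈ K, (QuotientGroup.mk u' : H ⧸ zpowers y') * QuotientGroup.mk k =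
      QuotientGroup.mk k * QuotientGroup.mk u') {i : ℤ} (hi : u' * x' * u'⁻¹ = x' ^ i) (hne : u' * x' ≠ x' * u') :
    ∀ k ∈ K, x' * k = k * x' := by
  have hfin := finite
  set U : H ⧸ zpowers y' := QuotientGroup.mk u' with hU
  set X : H ⧸ zpowers y' := QuotientGroup.mk x' with hX
  -- the centralizer of `K / ⟨y⟩`
  have h1 : ∀ k ∈ K, (X ^ (i - 1)) * (QuotientGroup.mk k : H ⧸ zpowers y') = QuotientGroup.mk k * X ^ (i - 1) := by
    intro k hk
    have h2 : X ^ (i - 1) = U * (X * U⁻¹ * X⁻¹) := by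
      have h3 : U * X * U⁻¹ = X ^ i := congrArg (QuotientGroup.mk' (zpowers y')) hi
      rw [zpow_sub, zpow_one, ← h3]
      group
    set A : H ⧸ zpowers y' := QuotientGroup.mk k with hA
    have h3 : Commute U A := hmod k hk
    have h4 : Commute U (X⁻¹ * A * X) := by
      have h5 : x'⁻¹ * k * x' ∈ K := by
        have := hKn.conj_mem k hk x'⁻¹
        rwa [inv_inv] at this
      exact hmod _ h5
    have h6 : Commute (X * U⁻¹ * X⁻¹) A := by
      have h7 : U⁻¹ * (X⁻¹ * A * X) = (X⁻¹ * A * X) * U⁻¹ := h4.inv_left.eq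
      calc X * U⁻¹ * X⁻¹ * A = X * (U⁻¹ * (X⁻¹ * A * X)) * X⁻¹ := by group
        _ = X * ((X⁻¹ * A * X) * U⁻¹) * X⁻¹ := by rw [h7]
        _ = A * (X * U⁻¹ * X⁻¹) := by group
    rw [h2]
    exact (h3.mul_left h6).eq
  -- `x` itself
  have hi1 : ¬ (71 : ℤ) ∣ i - 1 := by
    intro h
    apply hne
    have h2 : x' ^ (i - 1) = 1 := by
      rw [← orderOf_dvd_iff_zpow_eq_one, hx]
      exact_mod_cast h
    have h3 : u' * x' * u'⁻¹ = x' := by
      rw [hi]
      calc x' ^ i = x' ^ (i - 1) * x' := by rw [← zpow_add_one]; congr 1; ring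
        _ = x' := by rw [h2, one_mul]
    rwa [mul_inv_eq_iff_eq_mul] at h3
  obtain ⟨a, b, hab⟩ : ∃ a b : ℤ, (i - 1) * a + 71 * b = 1 := by
    have h2 : IsCoprime (i - 1) (71 : ℤ) :=
      ((Nat.prime_iff_prime_int.1 p71).coprime_iff_not_dvd.2 (by exact_mod_cast hi1)).symm
    obtain ⟨a, b, hab⟩ := h2
    exact ⟨a, b, by linear_combination hab⟩
  have hX71 : X ^ (71 : ℤ) = 1 := by
    have h2 : x' ^ (71 : ℤ) = 1 := by
      rw [← orderOf_dvd_iff_zpow_eq_one, hx]
      norm_num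
    exact congrArg (QuotientGroup.mk' (zpowers y')) h2
  have hXa : X = (X ^ (i - 1)) ^ a := by
    rw [← zpow_mul]
    have h2 : (i - 1) * a = 1 - 71 * b := by linarith
    rw [h2, zpow_sub, zpow_one, zpow_mul, hX71, one_zpow, inv_one, mul_one]
  intro k hk
  have h2 : Commute X (QuotientGroup.mk k : H ⧸ zpowers y') := by
    rw [hXa]
    exact (show Commute (X ^ (i - 1)) _ from h1 k hk).zpow_left a
  have h3 : (QuotientGroup.mk (k⁻¹ * (x' * k * x'⁻¹)) : H ⧸ zpowers y') = 1 := by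
    have h4 : X * QuotientGroup.mk k = QuotientGroup.mk k * X := h2.eq
    show (QuotientGroup.mk k : H ⧸ zpowers y')⁻¹ * (X * QuotientGroup.mk k * X⁻¹) = 1
    rw [h4]
    group
  rw [QuotientGroup.eq_one_iff] at h3
  obtain ⟨j, hj⟩ := h3
  have hj' : x' * k * x'⁻¹ = k * y' ^ j := by
    have h5 : y' ^ j = k⁻¹ * (x' * k * x'⁻¹) := hj
    rw [h5]
    group
  have hn : ∀ n : ℕ, x' ^ n * k * (x' ^ n)⁻¹ = k * (y' ^ j) ^ n := by
    intro n
    induction n with
    | zero => rw [pow_zero, pow_zero, mul_one, one_mul, inv_one, mul_one]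
    | succ n ih =>
      have h6 : Commute x' ((y' ^ j) ^ n) := ((show Commute x' y' from hxy).zpow_right j).pow_right n
      rw [pow_succ']
      calc x' * x' ^ n * k * (x' * x' ^ n)⁻¹ = x' * (x' ^ n * k * (x' ^ n)⁻¹) * x'⁻¹ := by group
        _ = x' * (k * (y' ^ j) ^ n) * x'⁻¹ := by rw [ih]
        _ = (x' * k * x'⁻¹) * (x' * (y' ^ j) ^ n * x'⁻¹) := by group
        _ = (k * y' ^ j) * (y' ^ j) ^ n := by rw [hj', h6.eq]; group
        _ = k * (y' ^ j) ^ (n + 1) := by rw [pow_succ', mul_assoc]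
  have h4 := hn 71
  have h5 : x' ^ 71 = 1 := by rw [← hx, pow_orderOf_eq_one]
  rw [h5, one_mul, inv_one, mul_one] at h4
  have h6 : (y' ^ j) ^ 71 = 1 := by
    have := mul_left_cancel (a := k) (b := 1) (c := (y' ^ j) ^ 71) (by rw [mul_one]; exact h4)
    exact this.symm
  have h7 : y' ^ j = 1 := by
    have h8 : (y' ^ j) ^ 5 = 1 := by
      rw [← zpow_natCast, ← zpow_mul, mul_comm, zpow_mul, zpow_natCast, ← hy, pow_orderOf_eq_one, one_zpow]
    have h9 : (y' ^ j) ^ 71 = y' ^ j := by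
      have h10 : (71 : ℕ) = 5 * 14 + 1 := by norm_num
      rw [h10, pow_succ, pow_mul, h8, one_pow, one_mul]
    rw [← h9, h6]
  rw [h7, mul_one] at hj'
  rwa [mul_inv_eq_iff_eq_mul] at hj'

/-- **The case `|C(x)| = 71 · 5` is impossible.** -/
theorem not_five {x : MG} (hx : orderOf x = 71) (hc : Nat.card (centralizer ({x} : Set MG)) = 71 * 5)
    (hN : Nat.card (normalizer ((zpowers x : Subgroup MG) : Set MG)) = 71 * 5 * 7) : False := by
  have hfin := finite
  have hf7 : Fact (Nat.Prime 7) := ⟨by norm_num⟩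
  obtain ⟨y0, hy0⟩ := exists_prime_orderOf_dvd_card' (G := centralizer ({x} : Set MG)) 5 (by rw [hc]; norm_num)
  obtain ⟨y, hydef⟩ : ∃ y : MG, y = y0 := ⟨_, rfl⟩
  have hy : orderOf y = 5 := by rw [hydef, Subgroup.orderOf_coe, hy0]
  have hxy : x * y = y * x := by rw [hydef]; exact (mem_centralizer_singleton_iff.1 y0.2).symm
  obtain ⟨H, hH⟩ : ∃ H : Subgroup MG, H = centralizer ({y} : Set MG) := ⟨_, rfl⟩
  have hxH : x ∈ H := by rw [hH]; exact mem_centralizer_singleton_iff.2 hxy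
  have hyH : y ∈ H := by rw [hH]; exact mem_centralizer_singleton_iff.2 rfl
  have hcen : ∀ g ∈ H, g * y = y * g := fun g hg => by
    rw [hH] at hg
    exact mem_centralizer_singleton_iff.1 hg
  obtain ⟨K, hKn, h71, hyK, hP⟩ := exists_K p5 (by norm_num) hy hyH hcen (by rw [hH]; exact nice_five hx hy hxy)
  have hidx := index_dvd (m := 497) p5 hx hy hxy (by rw [hN]) hxH hyH hyK hP
  have h25 : 5 ^ 2 ∣ Nat.card H := by
    rw [hH]
    exact BpMon.Thirteen.sq_dvd_cent p5 (by rw [card_M]; norm_num) hy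
  obtain ⟨k, hk10, hk⟩ := only_five hx hc hxH (K := K) h71
  set x' : H := ⟨x, hxH⟩ with hx'
  set y' : H := ⟨y, hyH⟩ with hy'
  have hxo : orderOf x' = 71 := by rw [hx', Subgroup.orderOf_mk, hx]
  have hyo : orderOf y' = 5 := by rw [hy', Subgroup.orderOf_mk, hy]
  have hxy' : x' * y' = y' * x' := Subtype.ext hxy
  -- the order of `K`
  have hx1 : x ^ 71 = 1 := by rw [← hx, pow_orderOf_eq_one]
  have h1 := H87.MP.fixed_mod hx1 (S := K.map H.subtype) (H87.MP.map_normalizer K hxH)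
  rw [card_map_of_injective H.subtype_injective, hk] at h1
  have h2 : Nat.card ↥(K.map H.subtype ⊓ centralizer ({x} : Set MG)) = 5 := by
    have h3 : Nat.card ↥(K.map H.subtype ⊓ centralizer ({x} : Set MG)) ∣ 5 ^ k := by
      rw [← hk, ← card_map_of_injective H.subtype_injective]
      exact card_dvd_of_le inf_le_left
    have h4 : Nat.card ↥(K.map H.subtype ⊓ centralizer ({x} : Set MG)) ∣ 71 * 5 := by
      rw [← hc]
      exact card_dvd_of_le inf_le_right
    have h5 : 5 ∣ Nat.card ↥(K.map H.subtype ⊓ centralizer ({x} : Set MG)) := by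
      rw [← hy]
      exact Subgroup.orderOf_dvd_natCard _ ⟨⟨y', hyK, rfl⟩, mem_centralizer_singleton_iff.2 hxy.symm⟩
    have h6 : Nat.Coprime (Nat.card ↥(K.map H.subtype ⊓ centralizer ({x} : Set MG))) 71 :=
      Nat.Coprime.coprime_dvd_left h3 (Nat.Coprime.pow_left k (by norm_num))
    exact Nat.dvd_antisymm (h6.dvd_of_dvd_mul_left h4) h5
  rw [h2] at h1
  have h3 : 5 ^ k % 71 = 5 := h1.symm
  rcases chkK k hk10 h3 with rfl | rfl
  · -- `|K| = 5`
    rw [← K.card_mul_index, hk, pow_one, pow_two] at h25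
    have h4 := (Nat.dvd_of_mul_dvd_mul_left (by norm_num) h25).trans hidx
    norm_num at h4
  -- `u`
  obtain ⟨u0, hu0⟩ := exists_prime_orderOf_dvd_card' (G := normalizer ((zpowers x : Subgroup MG) : Set MG)) 7
    (by rw [hN]; norm_num)
  have huo : orderOf (u0 : MG) = 7 := by rw [Subgroup.orderOf_coe, hu0]
  have hu7 : (u0 : MG) ^ 7 = 1 := by rw [← huo, pow_orderOf_eq_one]
  have huy := comm_u hx hy hxy hc hu7 u0.2
  have huH : (u0 : MG) ∈ H := by rw [hH]; exact mem_centralizer_singleton_iff.2 huy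
  set u' : H := ⟨(u0 : MG), huH⟩ with hu'
  have hyn : (zpowers y').Normal := by
    refine ⟨?_⟩
    rintro _ ⟨k, rfl⟩ g
    have h1 : g * y' = y' * g := Subtype.ext (hcen g g.2)
    have h2 : g * y' ^ k * g⁻¹ = y' ^ k := by
      rw [mul_inv_eq_iff_eq_mul]
      exact ((show Commute g y' from h1).zpow_right k).eq
    show g * y' ^ k * g⁻¹ ∈ zpowers y'
    rw [h2]
    exact ⟨k, rfl⟩
  have hmod := central_mod hyo hyK hk (u' := u') (Subtype.ext hu7)
  obtain ⟨i, hi⟩ : ∃ i : ℤ, u' * x' * u'⁻¹ = x' ^ i := by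
    obtain ⟨i, hi⟩ := (mem_normalizer_iff.1 u0.2 x).1 (mem_zpowers x)
    refine ⟨i, Subtype.ext ?_⟩
    exact hi.symm
  have hne : u' * x' ≠ x' * u' := by
    intro h
    have h5 : (u0 : MG) * x = x * u0 := congrArg Subtype.val h
    have h6 : orderOf (u0 : MG) ∣ 71 * 5 := by
      rw [← hc]
      exact dvd_of_comm h5
    rw [huo] at h6
    norm_num at h6
  have hcomm := comm_of_mod hxo hyo hxy' hmod hi hne
  have h7 : Nat.card K ∣ 71 * 5 := by
    rw [← hc, ← card_map_of_injective H.subtype_injective]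
    refine card_dvd_of_le ?_
    rintro _ ⟨n, hn, rfl⟩
    exact mem_centralizer_singleton_iff.2 (congrArg Subtype.val (hcomm n hn)).symm
  rw [hk] at h7
  norm_num at h7

/-- **The centralizer and the normalizer of an element of order 71.** -/
theorem norm71 (hK : AllKnown.{0}) (h23 : ∀ y : MG, orderOf y = 23 → ¬ 71 ∣ Nat.card (centralizer ({y} : Set MG)))
    (h29 : ∀ y : MG, orderOf y = 29 → ¬ 71 ∣ Nat.card (centralizer ({y} : Set MG))) {x : MG} (hx : orderOf x = 71) :
    Nat.card (centralizer ({x} : Set MG)) = 71 ∧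
      Nat.card (normalizer ((zpowers x : Subgroup MG) : Set MG)) = 71 * 35 := by
  rcases cases hK h23 h29 hx with h | ⟨h1, h2⟩ | ⟨h1, h2⟩
  · exact h
  · exact (not_five hx h1 h2).elim
  · exact (not_seven hx h1 h2).elim

end Cfsg.Agent.H58.Mon71
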