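import Cfsg.Agent.H58.Mon.Eleven
import Cfsg.Agent.H537.OreM.SevEven
import Cfsg.Agent.H497.OreM.SevenThirteen
import Cfsg.Agent.H8.Mon.Bound

/-!
# The Monster: the centralizers of the elements of prime order at least 5 (helper58)

`hB` : `|C(x)| ≤ 2 · 10 ^ 15` for `x` of prime order at least 5.
-/

set_option autoImplicit false
set_option maxRecDepth 100000

namespace Cfsg.Agent.H58.MonFin

open Cfsg Cfsg.Agent.BpSpor.MBigModel Cfsg.Agent.H199.NSmMon
open Cfsg.Agent.H995.CopEngine (AllKnown)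
open Subgroup (centralizer zpowers mem_centralizer_singleton_iff)

/-- the exact centralizers -/
theorem exact (hK : AllKnown.{0}) (hS : H715.Mon.Grp.SThree.{0}) : H8.Mon.Exact := by
  have h3 : H241.NH.Three.{0} := H241.NH.three_of fun X hX hC => hS _ X hX hC
  exact ⟨fun y hy => H715.Mon.Exact.card19' hS hy, fun y hy => H715.Mon.Exact.card23 hS hy,
    fun y hy => H715.Mon.Cent.card31 hS hy, fun y hy => H979.OreM.cent_41 hK h3 hy,
    fun y hy => H979.OreM.cent_71 hK h3 hy⟩

/-- **Two primes in a solvable centralizer.** -/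
theorem not_both {x : MG} (ho : ¬ 2 ∣ Nat.card ↥(centralizer ({x} : Set MG))) {p q n m : ℕ} (hp : p.Prime)
    (hq : q.Prime) (hpq : p ≠ q) (hpn : ¬ p ^ (n + 1) ∣ Nat.card ↥(centralizer ({x} : Set MG)))
    (h1 : ∀ i, 1 ≤ i → i ≤ n → ¬ q ∣ p ^ i - 1) (hqm : ¬ q ^ (m + 1) ∣ Nat.card ↥(centralizer ({x} : Set MG)))
    (h3 : ∀ i, 1 ≤ i → i ≤ m → ¬ p ∣ q ^ i - 1)
    (key : ∀ s : MG, orderOf s = q → ¬ p ∣ Nat.card ↥(centralizer ({s} : Set MG)))
    (hpd : p ∣ Nat.card ↥(centralizer ({x} : Set MG))) : ¬ q ∣ Nat.card ↥(centralizer ({x} : Set MG)) := by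
  have := finite
  have : Fact p.Prime := ⟨hp⟩
  have : Fact q.Prime := ⟨hq⟩
  intro hqd
  have hsol : Group.IsSolvable ↥(centralizer ({x} : Set MG)) := by
    refine S0205.result ?_
    rw [← Nat.not_even_iff_odd, even_iff_two_dvd]
    exact ho
  obtain ⟨T, s, hs, hT, hTi, hTs⟩ := MonThirteen.exists_commuting (p := p) (q := q) (n := n) (m := m) hsol hpq hqd
    hpn h1 hqm h3
  have h2 : p ∣ Nat.card ↥T := by
    rw [← T.card_mul_index] at hpd
    exact (hp.dvd_mul.1 hpd).resolve_right hTi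
  obtain ⟨t, ht⟩ := exists_prime_orderOf_dvd_card' p h2
  have hto : orderOf ((t : ↥(centralizer ({x} : Set MG))) : MG) = p := by
    rw [Subgroup.orderOf_coe, Subgroup.orderOf_coe, ht]
  have hts : ((t : ↥(centralizer ({x} : Set MG))) : MG) * (s : MG) = s * ((t : ↥(centralizer ({x} : Set MG))) : MG) :=
    congrArg Subtype.val (hTs _ t.2)
  refine key (s : MG) (by rw [Subgroup.orderOf_coe, hs]) ?_
  rw [← hto]
  exact Subgroup.orderOf_dvd_natCard _ (mem_centralizer_singleton_iff.2 hts)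

/-- **Order 13.** -/
theorem card13 (hK : AllKnown.{0}) (hS : H715.Mon.Grp.SThree.{0}) {x : MG} (hx : orderOf x = 13) :
    Nat.card ↥(centralizer ({x} : Set MG)) ≤ 2 * 10 ^ 15 :=
  MonThirteen.card_le hK hS hx (H497.OreM.no_seven hx)

/-- 11 and 7 do not commute -/
theorem key7 (s : MG) (hs : orderOf s = 11) : ¬ 7 ∣ Nat.card ↥(centralizer ({s} : Set MG)) := by
  have := finite
  have : Fact (Nat.Prime 7) := ⟨by norm_num⟩
  intro h
  obtain ⟨y, hy⟩ := exists_prime_orderOf_dvd_card' 7 h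
  have hyo : orderOf (y : MG) = 7 := by rw [Subgroup.orderOf_coe, hy]
  refine MonThirteen.not_eleven_seven hyo ?_
  rw [← hs]
  exact Subgroup.orderOf_dvd_natCard _ (mem_centralizer_singleton_iff.2 (mem_centralizer_singleton_iff.1 y.2).symm)

/-- **Order 5, no involution.** -/
theorem card5 (hK : AllKnown.{0}) (hS : H715.Mon.Grp.SThree.{0}) {x : MG} (hx : orderOf x = 5) (he : ¬ Ev x) :
    Nat.card ↥(centralizer ({x} : Set MG)) ≤ 2 * 10 ^ 15 := by
  have hfin : Finite MG := finite
  have hno : H8.Mon.NoInv x := by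
    rintro ⟨v, hv, hvx⟩
    exact he (MonThirteen.ev_five hx hv hvx.symm)
  have ho := H8.Mon.odd_of hno
  have X := exact hK hS
  have h17 := H199.AbMon.five_not_dvd' (r := 17) (by simp) hx
  have h19 : ¬ 19 ∣ Nat.card ↥(centralizer ({x} : Set MG)) := fun h => by
    have : Fact (Nat.Prime 19) := ⟨by norm_num⟩
    obtain ⟨y, hy⟩ := exists_prime_orderOf_dvd_card' 19 h
    exact hno (H8.Mon.nineteen X.nineteen hx (y := y) (by rw [Subgroup.orderOf_coe, hy])
      (mem_centralizer_singleton_iff.1 y.2).symm)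
  have h3 : ¬ 3 ^ (7 + 1) ∣ Nat.card ↥(centralizer ({x} : Set MG)) := H8.Mon.not_three (Or.inl ⟨rfl, rfl⟩) hx hno
  have hM : ∀ {p k : ℕ}, ¬ p ^ (k + 1) ∣ Nat.card MG → ¬ p ^ (k + 1) ∣ Nat.card ↥(centralizer ({x} : Set MG)) :=
    fun h h1 => h (h1.trans (Subgroup.card_subgroup_dvd_card _))
  have g := H537.OreM.dvd_card x
  have g := H537.OreM.step (j := 0) (by norm_num) g (H537.OreM.no_pow ho)
  have g := H537.OreM.step (j := 7) (by norm_num) g h3
  have g := H537.OreM.step (j := 9) (by norm_num) g (hM (by rw [card_M]; norm_num))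
  have g := H537.OreM.step (j := 6) (by norm_num) g (hM (by rw [card_M]; norm_num))
  have g := H537.OreM.step (j := 2) (by norm_num) g (hM (by rw [card_M]; norm_num))
  have g := H537.OreM.step (j := 3) (by norm_num) g (hM (by rw [card_M]; norm_num))
  have g := H537.OreM.step (j := 0) (by norm_num) g (H537.OreM.no_pow h17)
  have g := H537.OreM.step (j := 0) (by norm_num) g (H537.OreM.no_pow h19)
  have g := H537.OreM.step (j := 0) (by norm_num) g (H537.OreM.no_pow (H199.AbMon.five_not_dvd' (r := 23) (by simp) hx))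
  have g := H537.OreM.step (j := 0) (by norm_num) g (H537.OreM.no_pow (H199.AbMon.five_not_dvd' (r := 29) (by simp) hx))
  have g := H537.OreM.step (j := 0) (by norm_num) g (H537.OreM.no_pow
    (H8.Mon.no_comm (by norm_num) (by norm_num) X.thirtyone hx))
  have g := H537.OreM.step (j := 0) (by norm_num) g (H537.OreM.no_pow
    (H8.Mon.no_comm (by norm_num) (by norm_num) X.fortyone hx))
  have g := H537.OreM.step (j := 0) (by norm_num) g (H537.OreM.no_pow (H199.AbMon.five_not_dvd' (r := 47) (by simp) hx))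
  have g := H537.OreM.step (j := 0) (by norm_num) g (H537.OreM.no_pow (H199.AbMon.five_not_dvd' (r := 59) (by simp) hx))
  have g := H537.OreM.step (j := 0) (by norm_num) g (H537.OreM.no_pow
    (H8.Mon.no_comm (by norm_num) (by norm_num) X.seventyone hx))
  have hn0 : Nat.card ↥(centralizer ({x} : Set MG)) ≠ 0 := Nat.card_pos.ne'
  have hMc : ∀ {p k : ℕ}, ¬ p ^ (k + 1) ∣ 808017424794512875886459904961710757005754368000000000 →
      ¬ p ^ (k + 1) ∣ Nat.card ↥(centralizer ({x} : Set MG)) :=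
    fun h => hM (by rw [card_M]; exact h)
  generalize hN : Nat.card ↥(centralizer ({x} : Set MG)) = N at *
  have g0 : N ∣ 7 ^ 6 * (11 ^ 2 * (13 ^ 3 * (5 ^ 9 * 3 ^ 7))) := g.trans (by norm_num)
  -- 7 and 13
  by_cases h7 : 7 ∣ N
  · have h11 : ¬ 11 ∣ N := by
      rw [← hN] at h7 ⊢
      refine not_both (p := 7) (q := 11) (n := 6) (m := 2) (by rwa [hN]) (by norm_num) (by norm_num) (by norm_num)
        (by rw [hN]; exact hMc (by norm_num)) (by intro i h1 h2; interval_cases i <;> norm_num)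
        (by rw [hN]; exact hMc (by norm_num)) (by intro i h1 h2; interval_cases i <;> norm_num) key7 h7
    have g1 : N ∣ 11 ^ 2 * (7 ^ 6 * (13 ^ 3 * (5 ^ 9 * 3 ^ 7))) := g0.trans (by norm_num)
    have g2 := H199.AbTool.dvd_of_not_dvd (by norm_num) h11 g1
    by_cases h13 : 13 ∣ N
    · by_cases h169 : 13 ^ 2 ∣ N
      · have h5 : ¬ 5 ^ 4 ∣ N := by
          rw [← hN] at h169 ⊢
          exact H8.Mon.not_both hno h169
        have g3 : N ∣ 5 ^ 9 * (7 ^ 6 * (13 ^ 3 * 3 ^ 7)) := g2.trans (by norm_num)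
        have g4 := MonThirteen.reduce (b := 3) Nat.prime_five hn0 g3 h5
        exact (Nat.le_of_dvd (by norm_num) g4).trans (by norm_num)
      · exfalso
        rw [← hN] at h7 h13
        refine not_both (p := 7) (q := 13) (n := 6) (m := 1) (by rwa [hN]) (by norm_num) (by norm_num) (by norm_num)
          (by rw [hN]; exact hMc (by norm_num)) (by intro i h1 h2; interval_cases i <;> norm_num)
          (by rw [hN]; exact h169) (by intro i h1 h2; interval_cases i; norm_num)
          (fun s hs => H497.OreM.no_seven hs) h7 h13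
    · have g3 : N ∣ 13 ^ 3 * (7 ^ 6 * (5 ^ 9 * 3 ^ 7)) := g2.trans (by norm_num)
      have g4 := H199.AbTool.dvd_of_not_dvd (by norm_num) h13 g3
      exact (Nat.le_of_dvd (by norm_num) g4).trans (by norm_num)
  · have g1 := H199.AbTool.dvd_of_not_dvd (by norm_num) h7 g0
    by_cases h169 : 13 ^ 2 ∣ N
    · have h5 : ¬ 5 ^ 4 ∣ N := by
        rw [← hN] at h169 ⊢
        exact H8.Mon.not_both hno h169
      have g3 : N ∣ 5 ^ 9 * (11 ^ 2 * (13 ^ 3 * 3 ^ 7)) := g1.trans (by norm_num)
      have g4 := MonThirteen.reduce (b := 3) Nat.prime_five hn0 g3 h5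
      exact (Nat.le_of_dvd (by norm_num) g4).trans (by norm_num)
    · have g3 : N ∣ 13 ^ 3 * (11 ^ 2 * (5 ^ 9 * 3 ^ 7)) := g1.trans (by norm_num)
      have g4 := MonThirteen.reduce (b := 1) (by norm_num) hn0 g3 h169
      exact (Nat.le_of_dvd (by norm_num) g4).trans (by norm_num)

/-- 13, 19, 29, 71 -/
theorem seven_not (hK : AllKnown.{0}) (hS : H715.Mon.Grp.SThree.{0}) {x : MG} (hx : orderOf x = 7) {r : ℕ}
    (hr : r = 13 ∨ r = 19 ∨ r = 29 ∨ r = 71) : ¬ r ∣ Nat.card ↥(centralizer ({x} : Set MG)) := by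
  have h3 : H241.NH.Three.{0} := H241.NH.three_of fun X hX hC => hS _ X hX hC
  have := finite
  intro hd
  have hrp : r.Prime := by
    rcases hr with rfl | rfl | rfl | rfl <;> norm_num
  have : Fact r.Prime := ⟨hrp⟩
  obtain ⟨y, hy⟩ := exists_prime_orderOf_dvd_card' r hd
  have hyo : orderOf (y : MG) = r := by rw [Subgroup.orderOf_coe, hy]
  have hyx : (y : MG) * x = x * y := mem_centralizer_singleton_iff.1 y.2
  generalize (y : MG) = b at hyo hyx
  have h7 : 7 ∣ Nat.card ↥(centralizer ({b} : Set MG)) := by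
    rw [← hx]
    exact Subgroup.orderOf_dvd_natCard _ (mem_centralizer_singleton_iff.2 hyx.symm)
  rcases hr with rfl | rfl | rfl | rfl
  · exact H497.OreM.no_seven hyo h7
  · have h1 : Nat.card ↥(centralizer ({b} : Set MG)) = 60 * 19 := H715.Mon.Exact.card19' hS hyo
    rw [h1] at h7
    revert h7
    norm_num
  · rw [H626.LD.TwentyNine.card_cent hyo] at h7
    revert h7
    norm_num
  · rw [H979.OreM.cent_71 hK h3 hyo] at h7
    revert h7
    norm_num

/-- **Order 7.** -/
theorem card7 (hK : AllKnown.{0}) (hS : H715.Mon.Grp.SThree.{0}) {x : MG} (hx : orderOf x = 7) :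
    Nat.card ↥(centralizer ({x} : Set MG)) ≤ 2 * 10 ^ 15 := by
  have hfin : Finite MG := finite
  have h11 := MonThirteen.not_eleven_seven hx
  by_cases he : Ev x
  · rcases H537.OreM.card_even hx he with h | h
    · rw [h]
      norm_num
    · have h1 : Nat.card ↥(centralizer ({x} : Set MG)) ∣ 11 ^ 1 * (3 ^ 7 * 5 ^ 5 * 7 ^ 5 * 5040) := h.trans (by norm_num)
      have h2 := H199.AbTool.dvd_of_not_dvd (by norm_num) h11 h1
      exact (Nat.le_of_dvd (by norm_num) h2).trans (by norm_num)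
  have ho : ¬ 2 ∣ Nat.card ↥(centralizer ({x} : Set MG)) := fun h => he (MSevenT.hex7 x hx h)
  have hb : ∀ {r}, (r = 23 ∨ r = 31 ∨ r = 41 ∨ r = 47 ∨ r = 59) → ¬ r ∣ Nat.card ↥(centralizer ({x} : Set MG)) :=
    fun h => H199.AbMon.seven_not_dvd h hx
  have hc : ∀ {r}, (r = 13 ∨ r = 19 ∨ r = 29 ∨ r = 71) → ¬ r ∣ Nat.card ↥(centralizer ({x} : Set MG)) :=
    fun h => seven_not hK hS hx h
  have hM : ∀ {p k : ℕ}, ¬ p ^ (k + 1) ∣ Nat.card MG → ¬ p ^ (k + 1) ∣ Nat.card ↥(centralizer ({x} : Set MG)) :=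
    fun h h1 => h (h1.trans (Subgroup.card_subgroup_dvd_card _))
  have g := H537.OreM.dvd_card x
  have g := H537.OreM.step (j := 0) (by norm_num) g (H537.OreM.no_pow ho)
  have g := H537.OreM.step (j := 7) (by norm_num) g (H537.OreM.not_three_seven hx ho)
  have g := H537.OreM.step (j := 9) (by norm_num) g (hM (by rw [card_M]; norm_num))
  have g := H537.OreM.step (j := 6) (by norm_num) g (hM (by rw [card_M]; norm_num))
  have g := H537.OreM.step (j := 0) (by norm_num) g (H537.OreM.no_pow h11)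
  have g := H537.OreM.step (j := 0) (by norm_num) g (H537.OreM.no_pow (hc (r := 13) (by simp)))
  have g := H537.OreM.step (j := 1) (by norm_num) g (hM (by rw [card_M]; norm_num))
  have g := H537.OreM.step (j := 0) (by norm_num) g (H537.OreM.no_pow (hc (r := 19) (by simp)))
  have g := H537.OreM.step (j := 0) (by norm_num) g (H537.OreM.no_pow (hb (r := 23) (by simp)))
  have g := H537.OreM.step (j := 0) (by norm_num) g (H537.OreM.no_pow (hc (r := 29) (by simp)))
  have g := H537.OreM.step (j := 0) (by norm_num) g (H537.OreM.no_pow (hb (r := 31) (by simp)))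
  have g := H537.OreM.step (j := 0) (by norm_num) g (H537.OreM.no_pow (hb (r := 41) (by simp)))
  have g := H537.OreM.step (j := 0) (by norm_num) g (H537.OreM.no_pow (hb (r := 47) (by simp)))
  have g := H537.OreM.step (j := 0) (by norm_num) g (H537.OreM.no_pow (hb (r := 59) (by simp)))
  have g := H537.OreM.step (j := 0) (by norm_num) g (H537.OreM.no_pow (hc (r := 71) (by simp)))
  by_cases h17 : 17 ∣ Nat.card ↥(centralizer ({x} : Set MG))
  · have h5 : ¬ 5 ∣ Nat.card ↥(centralizer ({x} : Set MG)) := fun h5 => by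
      refine not_both (x := x) (p := 5) (q := 17) (n := 9) (m := 1) ho (by norm_num) (by norm_num) (by norm_num)
        (hM (by rw [card_M]; norm_num)) (by intro i h1 h2; interval_cases i <;> norm_num)
        (hM (by rw [card_M]; norm_num)) (by intro i h1 h2; interval_cases i; norm_num) (fun s hs => ?_) h5 h17
      have h1 : Nat.card ↥(centralizer ({s} : Set MG)) = 168 * 17 := H715.Mon.Exact.card17 hS hs
      rw [h1]
      norm_num
    have g1 : Nat.card ↥(centralizer ({x} : Set MG)) ∣ 5 ^ 9 * (3 ^ 7 * 7 ^ 6 * 17) := g.trans (by norm_num)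
    have g2 := H199.AbTool.dvd_of_not_dvd (by norm_num) h5 g1
    exact (Nat.le_of_dvd (by norm_num) g2).trans (by norm_num)
  · have g1 : Nat.card ↥(centralizer ({x} : Set MG)) ∣ 17 ^ 1 * (3 ^ 7 * 7 ^ 6 * 5 ^ 9) := g.trans (by norm_num)
    have g2 := H199.AbTool.dvd_of_not_dvd (by norm_num) h17 g1
    exact (Nat.le_of_dvd (by norm_num) g2).trans (by norm_num)

/-- **Elements of prime order at least 5 of the Monster.** -/
theorem hB (hK : AllKnown.{0}) (hS : H715.Mon.Grp.SThree.{0}) {q : ℕ} (hq : q.Prime) (hq5 : 5 ≤ q) {x : MG}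
    (hx : orderOf x = q) : Nat.card ↥(centralizer ({x} : Set MG)) ≤ 2 * 10 ^ 15 := by
  have h3 : H241.NH.Three.{0} := H241.NH.three_of fun X hX hC => hS _ X hX hC
  refine MonBnd.card_le_of hK hS (by norm_num) (fun x hx he => card5 hK hS hx he)
    (fun x hx => card7 hK hS hx) (fun x hx => (MonEleven.card_le hS hx).trans (by norm_num))
    (fun x hx => card13 hK hS hx) (fun x hx => ?_) hq hq5 hx
  rw [H979.OreM.cent_41 hK h3 hx]
  norm_num

end Cfsg.Agent.H58.MonFin
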