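import Cfsg.Agent.H58.Mon.FiveB
import Cfsg.Agent.H979.OreM.Loc71
import Cfsg.Agent.H715.Mon.Exact
import Cfsg.Agent.H626.LD.TwentyNine
import Cfsg.Agent.H436.MonLoc
import Cfsg.Agent.H241.NHThree

/-!
# The Monster: bounds for the centralizers of the elements of prime order at least 5 (helper58)

* `card_big` : order at least 17
* `card_le_of` : order at least 5, from the odd centralizers
-/

set_option autoImplicit false
set_option maxRecDepth 100000

namespace Cfsg.Agent.H58.MonBnd

open Cfsg
open Cfsg.Agent.BpSpor.MBigModel Cfsg.Agent.H995.CopEngine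
open Cfsg.Agent.H199.NSmMon (Ev)
open Subgroup (centralizer)

/-- the primes -/
theorem mem_primes {q : ℕ} (hq : q.Prime) (h5 : 5 ≤ q) (hd : q ∣ Nat.card MG) :
    q ∈ [5, 7, 11, 13, 17, 19, 23, 29, 31, 41, 47, 59, 71] := by
  rw [card_M] at hd
  have h4 : (808017424794512875886459904961710757005754368000000000 : ℕ) =
      2 ^ 46 * (3 ^ 20 * (5 ^ 9 * (7 ^ 6 * (11 ^ 2 * (13 ^ 3 * (17 ^ 1 * (19 ^ 1 * (23 ^ 1 * (29 ^ 1 * (31 ^ 1 *
        (41 ^ 1 * (47 ^ 1 * (59 ^ 1 * 71 ^ 1))))))))))))) := by norm_num
  rw [h4] at hd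
  have key : ∀ {p n : ℕ}, p.Prime → q ∣ p ^ n → q = p := fun hp h =>
    (Nat.prime_dvd_prime_iff_eq hq hp).1 (hq.dvd_of_dvd_pow h)
  simp only [List.mem_cons, List.not_mem_nil, or_false]
  rcases (hq.dvd_mul).1 hd with h | hd
  · have := key (by norm_num) h; omega
  rcases (hq.dvd_mul).1 hd with h | hd
  · have := key (by norm_num) h; omega
  rcases (hq.dvd_mul).1 hd with h | hd
  · have := key (by norm_num) h; omega
  rcases (hq.dvd_mul).1 hd with h | hd
  · have := key (by norm_num) h; omega
  rcases (hq.dvd_mul).1 hd with h | hd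
  · have := key (by norm_num) h; omega
  rcases (hq.dvd_mul).1 hd with h | hd
  · have := key (by norm_num) h; omega
  rcases (hq.dvd_mul).1 hd with h | hd
  · have := key (by norm_num) h; omega
  rcases (hq.dvd_mul).1 hd with h | hd
  · have := key (by norm_num) h; omega
  rcases (hq.dvd_mul).1 hd with h | hd
  · have := key (by norm_num) h; omega
  rcases (hq.dvd_mul).1 hd with h | hd
  · have := key (by norm_num) h; omega
  rcases (hq.dvd_mul).1 hd with h | hd
  · have := key (by norm_num) h; omega
  rcases (hq.dvd_mul).1 hd with h | hd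
  · have := key (by norm_num) h; omega
  rcases (hq.dvd_mul).1 hd with h | hd
  · have := key (by norm_num) h; omega
  rcases (hq.dvd_mul).1 hd with h | hd
  · have := key (by norm_num) h; omega
  have := key (by norm_num) hd; omega

/-- **Elements of prime order at least 17.** -/
theorem card_big (hK : AllKnown.{0}) (hS : H715.Mon.Grp.SThree.{0}) {K : ℕ} (hK0 : 10000 ≤ K)
    (h41 : ∀ x : MG, orderOf x = 41 → Nat.card ↥(centralizer ({x} : Set MG)) ≤ K)
    {x : MG} (h : orderOf x ∈ [17, 19, 23, 29, 31, 41, 47, 59, 71]) :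
    Nat.card ↥(centralizer ({x} : Set MG)) ≤ K := by
  have h3 : H241.NH.Three.{0} := H241.NH.three_of fun X hX hC => hS _ X hX hC
  simp only [List.mem_cons, List.not_mem_nil, or_false] at h
  rcases h with h | h | h | h | h | h | h | h | h
  · have h1 := H715.Mon.Exact.card17 hS h
    exact h1.le.trans (by omega)
  · have h1 := H715.Mon.Exact.card19' hS h
    exact h1.le.trans (by omega)
  · have h1 := H715.Mon.Exact.card23 hS h
    exact h1.le.trans (by omega)
  · exact (H626.LD.TwentyNine.card_cent h).le.trans (by omega)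
  · have h1 := H715.Mon.Cent.card31 hS h
    exact h1.le.trans (by omega)
  · exact h41 x h
  · have h1 : Nat.card ↥(centralizer ({x} : Set MG)) = 47 * 2 := H436.MonLoc.card47 hK h
    exact h1.le.trans (by omega)
  · exact (H58.Cop.M.norm_fiftynine hK h).1.le.trans (by omega)
  · exact (H979.OreM.cent_71 hK h3 h).le.trans (by omega)

/-- **Elements of prime order at least 5**, from the odd centralizers (5), from 7, 11, 13, 41. -/
theorem card_le_of (hK : AllKnown.{0}) (hS : H715.Mon.Grp.SThree.{0}) {K : ℕ} (hK0 : 1365154560000000 ≤ K)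
    (h5 : ∀ x : MG, orderOf x = 5 → ¬ Ev x → Nat.card ↥(centralizer ({x} : Set MG)) ≤ K)
    (h7 : ∀ x : MG, orderOf x = 7 → Nat.card ↥(centralizer ({x} : Set MG)) ≤ K)
    (h11 : ∀ x : MG, orderOf x = 11 → Nat.card ↥(centralizer ({x} : Set MG)) ≤ K)
    (h13 : ∀ x : MG, orderOf x = 13 → Nat.card ↥(centralizer ({x} : Set MG)) ≤ K)
    (h41 : ∀ x : MG, orderOf x = 41 → Nat.card ↥(centralizer ({x} : Set MG)) ≤ K)
    {q : ℕ} (hq : q.Prime) (hq5 : 5 ≤ q) {x : MG} (hx : orderOf x = q) :
    Nat.card ↥(centralizer ({x} : Set MG)) ≤ K := by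
  have := finite
  have hm := mem_primes hq hq5 (hx ▸ orderOf_dvd_natCard x)
  simp only [List.mem_cons, List.not_mem_nil, or_false] at hm
  rcases hm with h | h | h | h | hm
  · rw [h] at hx
    by_cases he : Ev x
    · rcases MonFiveB.five hx he with h1 | h1
      · rw [h1]
        exact le_trans (by norm_num) hK0
      · exact (Nat.le_of_dvd (by norm_num) h1).trans (le_trans (by norm_num) hK0)
    · exact h5 x hx he
  · exact h7 x (hx.trans h)
  · exact h11 x (hx.trans h)
  · exact h13 x (hx.trans h)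
  · refine card_big hK hS (le_trans (by norm_num) hK0) h41 ?_
    simp only [List.mem_cons, List.not_mem_nil, or_false]
    rw [hx]
    exact hm

end Cfsg.Agent.H58.MonBnd
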