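import Cfsg.Agent.H58.Mon.Thirteen
import Cfsg.Agent.H537.OreM.SevOdd
import Cfsg.Agent.H8.Mon.Tool

/-!
# The Monster: the centralizers of the elements of order 11 (helper58)

`card_le` : `|C(x)| ≤ 2 · 10 ^ 15` for `x` of order 11 (`card_dvd` : `|C(x)| = 11 · 95040` or a divisor of
`11 ^ 2 · 3 ^ 7 · 5 ^ 9`).
-/

set_option autoImplicit false
set_option maxRecDepth 100000

namespace Cfsg.Agent.H58.MonEleven

open Cfsg Cfsg.Agent.BpSpor.MBigModel Cfsg.Agent.H199.NSmMon
open Subgroup (centralizer zpowers mem_centralizer_singleton_iff)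

/-- the elements of order 11 of `Fi24'` commute with an involution -/
theorem even_fi_eleven (a : Spor.Fi24') (ha : orderOf a = 11) :
    2 ∣ Nat.card ↥(centralizer ({a} : Set Spor.Fi24')) := by
  have hc : Nat.card Spor.Fi24' = 1255205709190661721292800 := Cfsg.Agent.S1698.result.2
  have : Finite Spor.Fi24' := Nat.finite_of_card_ne_zero (by rw [hc]; norm_num)
  obtain ⟨t, ht, hd⟩ := H8.Mon.exists_fi (X := Spor.Fi24') ⟨MulEquiv.refl _⟩
  obtain ⟨g, -, hg⟩ := MSevenT.conj_into (C := (⊤ : Subgroup Spor.Fi24')) (T := centralizer ({t} : Set Spor.Fi24'))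
    (p := 11) (k := 1) le_top (by norm_num) (by rw [Subgroup.card_top, hc]; norm_num)
    (dvd_trans (by norm_num) hd) ha trivial
  have h1 := mem_centralizer_singleton_iff.1 hg
  have h2 : orderOf (g⁻¹ * t * g) = 2 := by
    rw [← ht]
    have := MulEquiv.orderOf_eq (MulAut.conj g⁻¹) t
    rwa [MulAut.conj_apply, inv_inv] at this
  have h3 : g⁻¹ * t * g * a = a * (g⁻¹ * t * g) := by
    calc g⁻¹ * t * g * a = g⁻¹ * (t * (g * a * g⁻¹)) * g := by group
      _ = g⁻¹ * ((g * a * g⁻¹) * t) * g := by rw [h1]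
      _ = a * (g⁻¹ * t * g) := by group
  rw [← h2, ← Subgroup.orderOf_mk _ (mem_centralizer_singleton_iff.2 h3)]
  exact orderOf_dvd_natCard _

/-- there are no elements of order 11 in `Th` -/
theorem even_th_eleven (a : Spor.Th) (ha : orderOf a = 11) : 2 ∣ Nat.card ↥(centralizer ({a} : Set Spor.Th)) := by
  exfalso
  have h1 := orderOf_dvd_natCard a
  rw [ha, show Nat.card Spor.Th = 90745943887872000 from Cfsg.Agent.S1700.result.2] at h1
  revert h1
  norm_num

/-- **order 11, not even** -/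
theorem not_three {x : MG} (hx : orderOf x = 11) (ho : ¬ 2 ∣ Nat.card ↥(centralizer ({x} : Set MG))) :
    ¬ 3 ^ 8 ∣ Nat.card ↥(centralizer ({x} : Set MG)) :=
  H537.OreM.not_three_of (by norm_num) (by norm_num) even_th_eleven even_fi_eleven hx ho

/-- the primes 7, 13, 23 -/
theorem not_dvd (hS : H715.Mon.Grp.SThree.{0}) {x : MG} (hx : orderOf x = 11) {r : ℕ}
    (hr : r = 7 ∨ r = 13 ∨ r = 23) : ¬ r ∣ Nat.card ↥(centralizer ({x} : Set MG)) := by
  have := finite
  intro hd
  have hrp : r.Prime := by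
    rcases hr with rfl | rfl | rfl <;> norm_num
  have : Fact r.Prime := ⟨hrp⟩
  obtain ⟨y, hy⟩ := exists_prime_orderOf_dvd_card' r hd
  have hyo : orderOf (y : MG) = r := by rw [Subgroup.orderOf_coe, hy]
  have hyx : (y : MG) * x = x * y := mem_centralizer_singleton_iff.1 y.2
  generalize (y : MG) = b at hyo hyx
  have h11 : 11 ∣ Nat.card ↥(centralizer ({b} : Set MG)) := by
    rw [← hx]
    exact Subgroup.orderOf_dvd_natCard _ (mem_centralizer_singleton_iff.2 hyx.symm)
  rcases hr with rfl | rfl | rfl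
  · exact MonThirteen.not_eleven_seven hyo h11
  · exact MonThirteen.not_eleven hyo h11
  · have h1 : Nat.card ↥(centralizer ({b} : Set MG)) = 24 * 23 := H715.Mon.Exact.card23 hS hyo
    rw [h1] at h11
    revert h11
    norm_num

/-- **The order of `C(x)`.** -/
theorem card_dvd (hS : H715.Mon.Grp.SThree.{0}) {x : MG} (hx : orderOf x = 11) :
    Nat.card ↥(centralizer ({x} : Set MG)) = 11 * 95040 ∨
      Nat.card ↥(centralizer ({x} : Set MG)) ∣ 3 ^ 7 * 5 ^ 9 * 11 ^ 2 := by
  have := finite
  by_cases ho : 2 ∣ Nat.card ↥(centralizer ({x} : Set MG))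
  · left
    have : Fact (Nat.Prime 2) := ⟨Nat.prime_two⟩
    obtain ⟨v, hv⟩ := exists_prime_orderOf_dvd_card' 2 ho
    have hv' : orderOf (v : MG) = 2 := by rw [Subgroup.orderOf_coe, hv]
    exact H199.AbMon.eleven hx (BpSpor.MBigEleven.comm_z hx hv' (mem_centralizer_singleton_iff.1 v.2).symm)
  · right
    have hb : ∀ {r}, (r = 17 ∨ r = 19 ∨ r = 29 ∨ r = 31 ∨ r = 41 ∨ r = 47 ∨ r = 59 ∨ r = 71) →
      ¬ r ∣ Nat.card ↥(centralizer ({x} : Set MG)) := fun h => H199.AbMon.eleven_not_dvd h hx
    have hc : ∀ {r}, (r = 7 ∨ r = 13 ∨ r = 23) →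
      ¬ r ∣ Nat.card ↥(centralizer ({x} : Set MG)) := fun h => not_dvd hS hx h
    have g := H537.OreM.dvd_card x
    have hM : ∀ {p k : ℕ}, ¬ p ^ (k + 1) ∣ Nat.card MG → ¬ p ^ (k + 1) ∣ Nat.card ↥(centralizer ({x} : Set MG)) :=
      fun h h1 => h (h1.trans (Subgroup.card_subgroup_dvd_card _))
    have g := H537.OreM.step (j := 0) (by norm_num) g (H537.OreM.no_pow ho)
    have g := H537.OreM.step (j := 7) (by norm_num) g (not_three hx ho)
    have g := H537.OreM.step (j := 9) (by norm_num) g (hM (by rw [card_M]; norm_num))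
    have g := H537.OreM.step (j := 0) (by norm_num) g (H537.OreM.no_pow (hc (r := 7) (by simp)))
    have g := H537.OreM.step (j := 2) (by norm_num) g (hM (by rw [card_M]; norm_num))
    have g := H537.OreM.step (j := 0) (by norm_num) g (H537.OreM.no_pow (hc (r := 13) (by simp)))
    have g := H537.OreM.step (j := 0) (by norm_num) g (H537.OreM.no_pow (hb (r := 17) (by simp)))
    have g := H537.OreM.step (j := 0) (by norm_num) g (H537.OreM.no_pow (hb (r := 19) (by simp)))
    have g := H537.OreM.step (j := 0) (by norm_num) g (H537.OreM.no_pow (hc (r := 23) (by simp)))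
    have g := H537.OreM.step (j := 0) (by norm_num) g (H537.OreM.no_pow (hb (r := 29) (by simp)))
    have g := H537.OreM.step (j := 0) (by norm_num) g (H537.OreM.no_pow (hb (r := 31) (by simp)))
    have g := H537.OreM.step (j := 0) (by norm_num) g (H537.OreM.no_pow (hb (r := 41) (by simp)))
    have g := H537.OreM.step (j := 0) (by norm_num) g (H537.OreM.no_pow (hb (r := 47) (by simp)))
    have g := H537.OreM.step (j := 0) (by norm_num) g (H537.OreM.no_pow (hb (r := 59) (by simp)))
    have g := H537.OreM.step (j := 0) (by norm_num) g (H537.OreM.no_pow (hb (r := 71) (by simp)))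
    refine g.trans ?_
    norm_num

/-- **Elements of order 11 of the Monster.** -/
theorem card_le (hS : H715.Mon.Grp.SThree.{0}) {x : MG} (hx : orderOf x = 11) :
    Nat.card ↥(centralizer ({x} : Set MG)) ≤ 10 ^ 12 := by
  rcases card_dvd hS hx with h | h
  · rw [h]
    norm_num
  · exact (Nat.le_of_dvd (by norm_num) h).trans (by norm_num)

end Cfsg.Agent.H58.MonEleven
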