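import Cfsg.Agent.H58.Mon.Bnd
import Cfsg.Agent.H465.PiBSMon
import Cfsg.Agent.H630.NHBabyC
import Cfsg.Agent.H139.LD.Struct13
import Cfsg.Agent.H705.OreB.BInvFive
import Cfsg.Agent.H518.Co13
import Cfsg.Agent.H979.Ore.BoundZ
import Cfsg.Agent.H979.OreM.Loc41
import Cfsg.Agent.H847.RadFiveM
import Cfsg.Agent.H961.CRM.Thirteen
import Cfsg.Agent.H131.T5Hall

/-!
# The Monster: the centralizers of the elements of order 13 (helper58)

`card_thirteen` : `|C(x)| ≤ 2 · 10 ^ 15` for `x` of order 13.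

* `exists_commuting` : the Hall argument in solvable groups;
* `model_D'` : the configuration of helper131 with `z = zz`;
* `ev_five` : an element of order 5 commuting with an involution commutes with a conjugate of `z`.
-/

set_option autoImplicit false
set_option maxRecDepth 100000

namespace Cfsg.Agent.H58.MonThirteen

open Cfsg Cfsg.Agent.MonsterX Cfsg.Agent.MonsterX.InstData Cfsg.Agent.MonsterX.MainPack Cfsg.Agent.MonsterU
open Cfsg.Agent.MonsterP Cfsg.Agent.MonsterN Cfsg.Agent.LThreeMB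
open Cfsg.Agent.MonsterX.MainBasic Cfsg.Agent.MonsterX.MainSimple Cfsg.Agent.MonsterX.Model
open Cfsg.Agent.MonsterU.Lam2 Cfsg.Agent.MonsterU.TwoCls
open Cfsg.Agent.BpSpor.MBigModel Cfsg.Agent.H199.NSmMon
open Cfsg.Spor (Co1)
open Subgroup (centralizer zpowers mem_centralizer_singleton_iff center)

/-! ### The Hall argument -/

/-- **The Hall argument.** -/
theorem exists_commuting {R : Type*} [Group R] [Finite R] (hR : Group.IsSolvable R) {p q n m : ℕ} [hp : Fact p.Prime]
    [hq : Fact q.Prime] (hpq : p ≠ q) (hqR : q ∣ Nat.card R) (hpn : ¬ p ^ (n + 1) ∣ Nat.card R)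
    (h1 : ∀ i, 1 ≤ i → i ≤ n → ¬ q ∣ p ^ i - 1) (hqm : ¬ q ^ (m + 1) ∣ Nat.card R)
    (h3 : ∀ i, 1 ≤ i → i ≤ m → ¬ p ∣ q ^ i - 1) :
    ∃ (T : Subgroup R) (s : R), orderOf s = q ∧ IsPGroup p ↥T ∧ ¬ p ∣ T.index ∧ ∀ t ∈ T, t * s = s * t := by
  obtain ⟨L, hL, hLc⟩ := H131.T5.exists_hall (G := R) (fun t => t = p ∨ t = q)
  have T0 : Sylow p R := default
  obtain ⟨g, hg⟩ := hLc (T0 : Subgroup R) (fun t ht hd => by
    left
    obtain ⟨n, hn⟩ := IsPGroup.iff_card.1 T0.2
    rw [hn] at hd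
    exact (Nat.prime_dvd_prime_iff_eq ht hp.out).1 (ht.dvd_of_dvd_pow hd))
  obtain ⟨y, hy⟩ := exists_prime_orderOf_dvd_card' q hqR
  obtain ⟨k, hk⟩ := hLc (zpowers y) (fun t ht hd => by
    right
    rw [Nat.card_zpowers, hy] at hd
    exact (Nat.prime_dvd_prime_iff_eq ht hq.out).1 hd)
  -- the Sylow `q`-subgroup of `L` is normal
  let s : R := k * y * k⁻¹
  have hsL : s ∈ L := hk y (Subgroup.mem_zpowers y)
  have hso : orderOf s = q := by
    rw [← hy]
    exact orderOf_injective (MulAut.conj k).toMonoidHom (MulAut.conj k).injective y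
  let s' : ↥L := ⟨s, hsL⟩
  have hso' : orderOf s' = q := by rw [Subgroup.orderOf_mk, hso]
  have hqS : IsPGroup q ↥(zpowers s') := IsPGroup.of_card (n := 1) (by rw [Nat.card_zpowers, hso', pow_one])
  obtain ⟨S, hS⟩ := hqS.exists_le_sylow
  have hn1 : Nat.card (Sylow q ↥L) = 1 := by
    have h4 := card_sylow_modEq_one q ↥L
    have h5 : Nat.card (Sylow q ↥L) ∣ Nat.card ↥L := by
      rw [S.card_eq_index_normalizer]
      exact Subgroup.index_dvd_card _
    have h6 : ∀ t : ℕ, t.Prime → t ∣ Nat.card (Sylow q ↥L) → t = p := by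
      intro t ht hd
      rcases hL t ht (hd.trans h5) with h | h
      · exact h
      · exfalso
        subst h
        have h7 := (Nat.modEq_zero_iff_dvd.2 hd).symm.trans h4
        have h8 : (0 : ℕ) % t = 1 % t := h7
        rw [Nat.zero_mod, Nat.mod_eq_of_lt ht.one_lt] at h8
        exact absurd h8 (by norm_num)
    have h7 : Nat.card (Sylow q ↥L) ≠ 0 := Nat.card_pos.ne'
    obtain ⟨i, hi⟩ : ∃ i, Nat.card (Sylow q ↥L) = p ^ i := by
      refine ⟨_, Nat.eq_prime_pow_of_unique_prime_dvd h7 (fun {d} hd hdd => h6 d hd hdd)⟩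
    have hi3 : i ≤ n := by
      by_contra hcon
      apply hpn
      refine (pow_dvd_pow p (by omega : n + 1 ≤ i)).trans ?_
      rw [← hi]
      exact h5.trans (Subgroup.card_subgroup_dvd_card L)
    rcases Nat.eq_zero_or_pos i with rfl | hpos
    · rw [hi, pow_zero]
    · rw [hi] at h4
      exact absurd ((Nat.modEq_iff_dvd' (Nat.one_le_pow _ _ hp.out.pos)).1 h4.symm) (h1 i hpos hi3)
  have hnorm : (S : Subgroup ↥L).Normal := by
    have := Subsingleton.intro (fun a b : Sylow q ↥L => (Nat.card_eq_one_iff_unique.1 hn1).1.elim a b)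
    exact (Sylow.normal_of_subsingleton S)
  have hSm : Nat.card ↥((S : Subgroup ↥L)) ∣ q ^ m := by
    obtain ⟨j, hj⟩ := IsPGroup.iff_card.1 S.2
    rw [hj]
    refine pow_dvd_pow q ?_
    by_contra hcon
    apply hqm
    refine (pow_dvd_pow q (by omega : m + 1 ≤ j)).trans ?_
    rw [← hj]
    exact (Subgroup.card_subgroup_dvd_card _).trans (Subgroup.card_subgroup_dvd_card L)
  refine ⟨(T0 : Subgroup R).map (MulAut.conj g).toMonoidHom, s, hso, T0.2.map _, ?_, ?_⟩
  · have h4 : ((T0 : Subgroup R).map (MulAut.conj g).toMonoidHom).index = (T0 : Subgroup R).index :=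
      Subgroup.index_map_equiv _ (MulAut.conj g)
    rw [h4]
    exact T0.not_dvd_index
  · rintro t ⟨u, hu, rfl⟩
    have htL : g * u * g⁻¹ ∈ L := hg u hu
    obtain ⟨n', hn'⟩ := T0.2 ⟨u, hu⟩
    have hn' : u ^ p ^ n' = 1 := congrArg Subtype.val hn'
    have h6 : (g * u * g⁻¹) ^ p ^ n' = 1 := by
      have h6 : (g * u * g⁻¹) ^ p ^ n' = g * u ^ p ^ n' * g⁻¹ := conj_pow
      rw [h6, hn', mul_one, mul_inv_cancel]
    have h7 := H794.MonSec.acts_trivially_pow hpq h3 S.2 hSm (u := (⟨g * u * g⁻¹, htL⟩ : ↥L)) (f := n')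
      (Subtype.ext h6) (fun a ha => hnorm.conj_mem a ha _) s' (hS (Subgroup.mem_zpowers s'))
    have h8 : g * u * g⁻¹ * s * (g * u * g⁻¹)⁻¹ = s := congrArg Subtype.val h7
    show g * u * g⁻¹ * s = s * (g * u * g⁻¹)
    exact mul_inv_eq_iff_eq_mul.1 h8

/-! ### Order 5 -/

/-- the centralizer of an element of odd prime order in `C(t)` -/
theorem card_XT {x w : MG} {r : ℕ} (hr : r.Prime) (hr2 : r ≠ 2) (hx : orderOf x = r) (hw : LThreeB.Row.TA w)
    (hxw : x * w = w * x) : ∃ y : Spor.BabyMonster, orderOf y = r ∧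
      Nat.card ↥(LThreeB.XT x w) = Nat.card ↥(centralizer ({y} : Set Spor.BabyMonster)) * 2 := by
  have := finite
  obtain ⟨t, ht, h2, ⟨e⟩⟩ := H979.OddB.exists_cover (L := Spor.BabyMonster) ⟨MulEquiv.refl _⟩
  have hwt : IsConj w t := (show IsConj (tG LitFin.all.hG LitFin.all.hR) w from hw).symm.trans
    (show IsConj (tG LitFin.all.hG LitFin.all.hR) t from ht)
  obtain ⟨g, hg⟩ := isConj_iff.1 hwt
  have hx't : (g * x * g⁻¹) * t = t * (g * x * g⁻¹) := by
    rw [← hg]
    calc g * x * g⁻¹ * (g * w * g⁻¹) = g * (x * w) * g⁻¹ := by group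
      _ = g * (w * x) * g⁻¹ := by rw [hxw]
      _ = _ := by group
  let a : ↥(centralizer ({t} : Set MG)) := ⟨g * x * g⁻¹, mem_centralizer_singleton_iff.2 hx't⟩
  have ha : orderOf a = r := by
    rw [Subgroup.orderOf_mk, ← hx]
    exact orderOf_injective (MulAut.conj g).toMonoidHom (MulAut.conj g).injective x
  refine ⟨e (QuotientGroup.mk a), ?_, ?_⟩
  · rw [MulEquiv.orderOf_eq]
    have hcop : (Nat.card ↥(center ↥(centralizer ({t} : Set MG)))).Coprime r := by
      rw [h2]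
      exact (Nat.coprime_primes Nat.prime_two hr).2 (Ne.symm hr2)
    exact LThree.Red.orderOf_mk hr _ hcop ha
  · rw [← H979.CovLift.card_cent h2 e hr hr2 ha, ← Nat.card_congr (LThreeB.centXT a).toEquiv,
      Nat.card_congr (LThreeB.conjXT g x w).toEquiv, hg]

/-- **An element of order 5 commuting with an involution commutes with a conjugate of `z`.** -/
theorem ev_five {x t : MG} (hx : orderOf x = 5) (ht : orderOf t = 2) (hxt : x * t = t * x) : Ev x := by
  have := finite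
  rcases cls ht with ⟨g, hg⟩ | hta
  · exact ⟨g, by rw [hg]; exact hxt.symm⟩
  · refine (CpAutBFive.EvenRow.cases hx).resolve_right (not_not.2 ?_)
    obtain ⟨y, hy, hc⟩ := card_XT Nat.prime_five (by norm_num) hx hta hxt
    obtain ⟨u, hu, huy⟩ := H705.OreB.BInvFive.exists_inv (L := Spor.BabyMonster) ⟨MulEquiv.refl _⟩ hy
    have h2 : 2 ∣ Nat.card ↥(centralizer ({y} : Set Spor.BabyMonster)) := by
      rw [← hu]
      exact Subgroup.orderOf_dvd_natCard _ (mem_centralizer_singleton_iff.2 huy)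
    have h4 : 4 ∣ Nat.card ↥(LThreeB.XT x t) := by
      rw [hc]
      obtain ⟨k, hk⟩ := h2
      rw [hk]
      exact ⟨k, by ring⟩
    exact h4.trans (Subgroup.card_dvd_of_le fun c hc => mem_centralizer_singleton_iff.2 (LThreeB.mem_XT.1 hc).1)

/-- **A subgroup of order divisible by `5 ^ 7`; its elements of order 5 commute with a conjugate of `z`.** -/
theorem exists_S : ∃ S : Subgroup MG, 5 ^ 7 ∣ Nat.card ↥S ∧ ∀ y ∈ S, orderOf y = 5 → Ev y := by
  have := finite
  have hp : Fact (Nat.Prime 5) := ⟨Nat.prime_five⟩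
  obtain ⟨x, -, -, hx, hfr, -⟩ := BpSpor.M5.hasPair
  have hj := CpAutBFive.Final.hJ (pi x) (MFive.orderOf_pi chart Nat.prime_five (by decide) hx) hfr
  obtain ⟨f1, f2, f3, f4⟩ := BpSpor.M5.j2_facts hj
  obtain ⟨N, hN⟩ := BpSpor.M5.exists_rad chart (by norm_num) hx hfr
    (fun d hd hc => MFive.isolated chart BpSpor.M5.trNe hx hfr d hd hc) f1 f2
  obtain ⟨k, hk, hkk⟩ := PreUniq.MonRow.exists_kk Nat.prime_five (by decide) PreUniq.MonFiveRow.neg_five x hx hfr
  have hkk' : k * k = zz := hkk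
  have hkz : k * zz = zz * k := by rw [← hkk', mul_assoc]
  obtain ⟨K, hK⟩ : ∃ K : ↥(centralizer ({zD x} : Set ↥(centralizer ({(x : MG)} : Set MG)))),
      (K : ↥(centralizer ({(x : MG)} : Set MG))) * K = zD x :=
    ⟨⟨⟨k, mem_centralizer_singleton_iff.2 hk⟩, mem_centralizer_singleton_iff.2 (Subtype.ext hkz)⟩, Subtype.ext hkk'⟩
  have hD4 := BpSpor.M5.dvd_zero chart BpSpor.M5.trNe (CpAutBFive.Closed.coFive CpAutBFive.Final.hJ)
    CpAutBFive.Closed.hnEight BpSpor.M5.hasPair (CoFive.Ranks.wclassOf _) CoFive.Sylow.exists_four hx hfr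
  have hc : Nat.card (XX (pi x)) = 604800 := by
    obtain ⟨e⟩ := hj
    rw [Nat.card_congr e.toEquiv, Cfsg.Agent.J2Sylow.SporSylow.card_J2]
  obtain ⟨S, hS, hSp, hSN, hxS, hS7⟩ := H546.RadSeven.exists_radical_seven f3 hN hK (a := 2) hD4
    (by rw [hc]; norm_num) (by rw [hc]; norm_num)
  refine ⟨S.map (centralizer ({(x : MG)} : Set MG)).subtype, ?_, ?_⟩
  · rw [Subgroup.card_map_of_injective (Subgroup.subtype_injective _)]
    exact hS7
  · rintro _ ⟨y, hy, rfl⟩ hyo
    have hyo' : orderOf y = 5 := by rw [← hyo]; exact (Subgroup.orderOf_coe y).symm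
    obtain ⟨t, ht2, ht1, hty⟩ := H847.RadFive.exists_inv f3 hj (by rw [hc]; norm_num) hN hK hD4 (by
      intro h10
      have h11 := h10.trans (Subgroup.card_subgroup_dvd_card _)
      rw [card_M] at h11
      revert h11
      norm_num) hyo' (by
      intro ρ hρ
      have hSm : (S.map ρ).Normal := hS.map ρ hρ
      rcases hSm.eq_bot_or_eq_top with h1 | h1
      · have h2 : ρ y ∈ S.map ρ := Subgroup.mem_map_of_mem ρ hy
        rw [h1] at h2
        exact Subgroup.mem_bot.1 h2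
      · exfalso
        apply f3
        have h2 : IsPGroup 5 ↥(S.map ρ) := hSp.map ρ
        have h3 : Group.IsSolvable ↥(S.map ρ) := by
          have : Finite (XX (pi x)) := Finite.of_surjective ρ hρ
          have := h2.isNilpotent
          infer_instance
        rw [h1] at h3
        exact Group.isSolvable_of_isSolvable_injective (f := (Subgroup.topEquiv (G := XX (pi x))).symm.toMonoidHom)
          (Subgroup.topEquiv (G := XX (pi x))).symm.injective)
    have h2 : Fact (Nat.Prime 2) := ⟨Nat.prime_two⟩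
    refine ev_five (t := (t : MG)) hyo ?_ (congrArg Subtype.val hty).symm
    rw [Subgroup.orderOf_coe]
    exact orderOf_eq_prime (by rw [pow_two, ht2]) ht1

/-! ### Order 13 -/

theorem ev_five_not {e : MG} (he : orderOf e = 5) (hev : Ev e) : ¬ 13 ∣ Nat.card ↥(centralizer ({e} : Set MG)) := by
  rcases MonFiveB.five he hev with h | h
  · rw [h]
    norm_num
  · intro h1
    exact absurd (h1.trans h) (by norm_num)

/-- **`5 ^ 3` does not divide `|C(x)|`.** -/
theorem not_five {x : MG} (hx : orderOf x = 13) : ¬ 5 ^ 3 ∣ Nat.card ↥(centralizer ({x} : Set MG)) := by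
  have := finite
  intro h
  obtain ⟨S, hS, hSe⟩ := exists_S
  obtain ⟨g, e, he, heN, heT⟩ := H199.NSmAbs.exists_common (p := 5) (n := 9) (a := 3) (b := 7) Nat.prime_five
    (by rw [card_M]; norm_num) (N := centralizer ({x} : Set MG)) (T := S) h hS (by norm_num)
  have h1 : Ev (g * e * g⁻¹) := hSe _ heT (by
    rw [← he]
    exact orderOf_injective (MulAut.conj g).toMonoidHom (MulAut.conj g).injective e)
  have h2 : Ev e := by
    have := h1.conj g⁻¹
    have h3 : g⁻¹ * (g * e * g⁻¹) * g⁻¹⁻¹ = e := by group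
    rwa [h3] at this
  apply ev_five_not he h2
  rw [← hx]
  exact Subgroup.orderOf_dvd_natCard _ (mem_centralizer_singleton_iff.2 (mem_centralizer_singleton_iff.1 heN).symm)

/-- `|C(x) ∩ C(z)|` divides 312 -/
theorem card_meet {x : centralizer ({zz} : Set MG)} (hx : orderOf x = 13) :
    Nat.card ↥(LThreeB.XT (x : MG) zz) ∣ 312 := by
  have := finite
  have hfc := BpSpor.MBigCo.finite_co1
  have hpx : orderOf (pi x) = 13 := MFive.orderOf_pi chart (by norm_num) (by decide) hx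
  let f : ↥(LThreeB.XT (x : MG) zz) →* Co1 := pi.comp (Subgroup.inclusion inf_le_right)
  have h1 : Nat.card ↥f.range ∣ 156 := by
    refine (Subgroup.card_dvd_of_le ?_).trans (H518.Co13.cent_co1 hpx)
    rintro _ ⟨c, rfl⟩
    refine mem_centralizer_singleton_iff.2 ?_
    show pi _ * pi x = pi x * pi _
    rw [← map_mul, ← map_mul]
    congr 1
    exact Subtype.ext (LThreeB.mem_XT.1 c.2).1
  have h2 : Nat.card ↥f.ker ≤ 2 := by
    have h3 := H979.Ore.BoundZ.card_CQ_le chart x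
    rw [BpMon.Thirteen.fr_pi KDone.lft MFive.Row.hc hx, one_mul] at h3
    refine le_trans ?_ h3
    refine Nat.card_le_card_of_injective (fun c : ↥f.ker => (⟨((c : ↥(LThreeB.XT (x : MG) zz)) : MG), ?_, ?_⟩ :
      ↥(KDone.K.ι.range ⊓ centralizer ({(x : MG)} : Set MG) : Subgroup MG))) ?_
    · exact (chart.pi_eq_one _).1 (MonoidHom.mem_ker.1 c.2)
    · exact mem_centralizer_singleton_iff.2 (LThreeB.mem_XT.1 c.1.2).1
    · intro a b hab
      have h5 : ((a : ↥(LThreeB.XT (x : MG) zz)) : MG) = ((b : ↥(LThreeB.XT (x : MG) zz)) : MG) :=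
        congrArg (fun t : ↥(KDone.K.ι.range ⊓ centralizer ({(x : MG)} : Set MG) : Subgroup MG) => (t : MG)) hab
      exact Subtype.ext (Subtype.ext h5)
  have h3 : Nat.card ↥(LThreeB.XT (x : MG) zz) = Nat.card ↥f.range * Nat.card ↥f.ker := by
    rw [Subgroup.card_eq_card_quotient_mul_card_subgroup f.ker]
    congr 1
    exact Nat.card_congr (QuotientGroup.quotientKerEquivRange f).toEquiv
  have h4 : Nat.card ↥f.ker ∣ 2 := by
    have h5 : 0 < Nat.card ↥f.ker := Nat.card_pos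
    interval_cases Nat.card ↥f.ker <;> norm_num
  rw [h3]
  exact (mul_dvd_mul h1 h4).trans (by norm_num)

/-- a central involution of a Sylow 2-subgroup -/
theorem exists_central {C : Type*} [Group C] [Finite C] {k : ℕ} (h : 2 ^ (k + 1) ∣ Nat.card C) :
    ∃ w : C, orderOf w = 2 ∧ 2 ^ (k + 1) ∣ Nat.card ↥(centralizer ({w} : Set C)) := by
  have h2 : Fact (Nat.Prime 2) := ⟨Nat.prime_two⟩
  obtain ⟨P⟩ : Nonempty (Sylow 2 C) := inferInstance
  have hP : 2 ^ (k + 1) ∣ Nat.card ↥(P : Subgroup C) := P.pow_dvd_card_of_pow_dvd_card h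
  have hnt : Nontrivial ↥(P : Subgroup C) := by
    rw [← Finite.one_lt_card_iff_nontrivial]
    have h3 := Nat.le_of_dvd Nat.card_pos hP
    have h4 : 2 ≤ 2 ^ (k + 1) := by
      rw [pow_succ]
      have := Nat.one_le_two_pow (n := k)
      omega
    omega
  have hc : Nontrivial ↥(center ↥(P : Subgroup C)) := P.isPGroup'.center_nontrivial
  have hcp : IsPGroup 2 ↥(center ↥(P : Subgroup C)) := P.isPGroup'.to_subgroup _
  have hd : 2 ∣ Nat.card ↥(center ↥(P : Subgroup C)) := by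
    obtain ⟨n, hn⟩ := IsPGroup.iff_card.1 hcp
    rw [hn]
    refine dvd_pow_self 2 ?_
    rintro rfl
    rw [pow_zero] at hn
    have := (Finite.one_lt_card_iff_nontrivial (α := ↥(center ↥(P : Subgroup C)))).2 hc
    omega
  obtain ⟨w, hw⟩ := exists_prime_orderOf_dvd_card' 2 hd
  refine ⟨((w : ↥(P : Subgroup C)) : C), ?_, ?_⟩
  · rw [Subgroup.orderOf_coe, Subgroup.orderOf_coe, hw]
  · refine hP.trans (Subgroup.card_dvd_of_le fun c hc => mem_centralizer_singleton_iff.2 ?_)
    exact congrArg Subtype.val ((Subgroup.mem_center_iff.1 w.2) ⟨c, hc⟩)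

/-- the 2-part, `x` commuting with a conjugate of `z` -/
theorem two_ev {x : MG} (hx : orderOf x = 13) (he : Ev x) : ¬ 2 ^ 4 ∣ Nat.card ↥(centralizer ({x} : Set MG)) := by
  have := finite
  intro h
  obtain ⟨w, hw, hd⟩ := exists_central (k := 3) h
  obtain ⟨g, hg⟩ := he
  have hwx : (w : MG) * x = x * w := mem_centralizer_singleton_iff.1 w.2
  have hwo : orderOf (w : MG) = 2 := by rw [Subgroup.orderOf_coe, hw]
  obtain ⟨k, hk⟩ := (H58.Mon71.only_z13 hx hg).2 w hwo hwx
  have h1 : Nat.card ↥(centralizer ({w} : Set ↥(centralizer ({x} : Set MG)))) = Nat.card ↥(LThreeB.XT x (w : MG)) :=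
    Nat.card_congr (LThreeB.centXT' w).toEquiv
  have h2 : k⁻¹ * (w : MG) * k⁻¹⁻¹ = zz := by
    rw [← hk]
    group
  have h3 : (k⁻¹ * x * k⁻¹⁻¹) * zz = zz * (k⁻¹ * x * k⁻¹⁻¹) := by
    rw [← h2]
    calc k⁻¹ * x * k⁻¹⁻¹ * (k⁻¹ * w * k⁻¹⁻¹) = k⁻¹ * (x * w) * k⁻¹⁻¹ := by group
      _ = k⁻¹ * (w * x) * k⁻¹⁻¹ := by rw [hwx]
      _ = _ := by group
  let x' : centralizer ({zz} : Set MG) := ⟨k⁻¹ * x * k⁻¹⁻¹, mem_centralizer_singleton_iff.2 h3⟩
  have hx' : orderOf x' = 13 := by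
    rw [Subgroup.orderOf_mk, ← hx]
    exact orderOf_injective (MulAut.conj k⁻¹).toMonoidHom (MulAut.conj k⁻¹).injective x
  have h4 : Nat.card ↥(LThreeB.XT x (w : MG)) = Nat.card ↥(LThreeB.XT (x' : MG) zz) := by
    rw [Nat.card_congr (LThreeB.conjXT k⁻¹ x (w : MG)).toEquiv, h2]
  rw [h1, h4] at hd
  exact absurd (hd.trans (card_meet hx')) (by norm_num)

/-- the 2-part, `x` commuting with no conjugate of `z` -/
theorem two_bad {x : MG} (hx : orderOf x = 13) (he : ¬ Ev x) : ¬ 2 ^ 5 ∣ Nat.card ↥(centralizer ({x} : Set MG)) := by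
  have := finite
  intro h
  obtain ⟨w, hw, hd⟩ := exists_central (k := 4) h
  have hwx : (w : MG) * x = x * w := mem_centralizer_singleton_iff.1 w.2
  have hwo : orderOf (w : MG) = 2 := by rw [Subgroup.orderOf_coe, hw]
  have hta : LThreeB.Row.TA (w : MG) := by
    refine (cls hwo).resolve_left ?_
    rintro ⟨g, hg⟩
    exact he ⟨g, by rw [hg]; exact hwx⟩
  have h1 : Nat.card ↥(centralizer ({w} : Set ↥(centralizer ({x} : Set MG)))) = Nat.card ↥(LThreeB.XT x (w : MG)) :=
    Nat.card_congr (LThreeB.centXT' w).toEquiv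
  obtain ⟨y, hy, hc⟩ := card_XT (by norm_num) (by norm_num) hx hta hwx.symm
  have := H182.Bad.RowB.finite_b
  have h2 := (H139.LD.struct13 (L := Spor.BabyMonster) ⟨MulEquiv.refl _⟩ hy).1
  rw [h1, hc, h2] at hd
  revert hd
  norm_num

/-! ### The 13-part -/

section D

open Cfsg.Agent.H131.T5M13 Cfsg.Agent.H131.T5Cube Cfsg.Agent.H609.Inv.Thirteen
open Cfsg.Agent.H794.MonLift Cfsg.Agent.H794.MonThirteen
open Subgroup

/-- the configuration of helper131 with `z = zz` -/
theorem model_D' : ∃ (x t : MG) (Q : Subgroup MG), D x zz t Q := by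
  have hfin := MFive.Row.finite_model
  have hc := MFive.Row.hc
  have h := KChart.chart KDone.lft hc
  have h13 : Nat.Prime 13 := by norm_num
  obtain ⟨x, hx, hxs⟩ := MFive.KPair.exists_order h h13 (by decide) orderOf_s
  have hx13 : x ^ 13 = 1 := by rw [← hx, pow_orderOf_eq_one]
  have hfr : fr (KChart.pi hc x) = 1 := BpMon.Thirteen.fr_pi KDone.lft hc hx
  have hzx : KDone.K.z * (x : ↥InstData.M.G) = x * KDone.K.z := (mem_centralizer_singleton_iff.1 x.2).symm
  have only : ∀ t : ↥InstData.M.G, t * x = x * t → t * KDone.K.z = KDone.K.z * t → t * t = 1 → t = 1 ∨ t = KDone.K.z := by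
    intro t htx htz htt
    by_cases ht : t = 1
    · exact Or.inl ht
    · right
      exact BpMon.Thirteen.only_inv KDone.lft hc (x := x) (t := ⟨t, mem_centralizer_singleton_iff.2 htz⟩) hx
        (Subtype.ext htt) (fun h1 => ht (congrArg Subtype.val h1)) (Subtype.ext htx.symm)
  obtain ⟨k, hk, hkm⟩ := exists_mem h h13 (by decide) hx13 (V := V) b_mem (by rw [hxs]; exact bs)
  obtain ⟨l, hl, hlm⟩ := exists_mem h h13 (by decide) hx13 (V := V) c_mem (by rw [hxs]; exact cs)
  refine ⟨x, tG KDone.mGroup KDone.mRep, Cfsg.Agent.H794.MonLift.lft (KChart.pi hc) x V, ⟨?_, ?_, ?_, ?_, ?_, ?_, ?_⟩⟩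
  · refine ⟨?_, by rw [orderOf_coe, hx], by norm_num, hzx, only, isPGroup_lft h (by decide) hx13 hfr fun v hv => V_sq hv,
      fun q hq => lft_x hq, fun q hq => lft_z hq, z_mem h, ⟨k, hkm, l, hlm, not_comm h hx13 hfr only hk hl (lft_x hkm)
        (lft_x hlm)⟩, ?_, ?_, ?_⟩
    · have : Fact (Nat.Prime 2) := ⟨Nat.prime_two⟩
      exact orderOf_eq_prime (by rw [pow_two]; exact h.large.z_sq) h.large.z_ne
    · intro h7
      have h1 := h7.trans (BpRankZero.Seven.card_cz h)
      rw [Cfsg.Agent.MonsterU.CoFrameF.card_Co1] at h1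
      norm_num at h1
    · rw [Cfsg.Agent.MonsterP.EquivOf.isM_model.2]
      norm_num
    · rw [Cfsg.Agent.MonsterP.EquivOf.isM_model.2]
      norm_num
  · -- the order of `t`
    have : Fact (Nat.Prime 2) := ⟨Nat.prime_two⟩
    exact orderOf_eq_prime (by rw [pow_two]; exact Subtype.ext KDone.mRep.t₀_sq)
      fun h => KDone.mRep.t₀_ne (congrArg Subtype.val h)
  · -- `z` and `t` are not conjugate
    intro hcj
    obtain ⟨g, hg⟩ := isConj_iff.1 hcj.symm
    exact MThirteen.Row.ta_ne (t := tG KDone.mGroup KDone.mRep) (IsConj.refl _) g hg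
  · -- the classes
    intro v hv
    have hv1 : v ≠ 1 := by
      rintro rfl
      rw [orderOf_one] at hv
      exact absurd hv (by norm_num)
    rcases MFive.Row.two v (by rw [← pow_two, ← hv, pow_orderOf_eq_one]) hv1 with ⟨g, hg⟩ | ⟨g, hg⟩
    · exact Or.inl (isConj_iff.2 ⟨g, hg⟩)
    · exact Or.inr (isConj_iff.2 ⟨g, hg⟩)
  · -- the centralizer of `t`
    have h1 : Nat.card ↥(centralizer ({tG KDone.mGroup KDone.mRep} : Set ↥InstData.M.G)) = _ :=
      MonsterX.MainPack.card_cent_t Instance.mGroup Instance.mRep Instance.mLat InstanceFinal.mOrbit Instance.mTrans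
    rw [h1]
    norm_num
  · -- six transpositions
    intro a b ha hb hab
    obtain ⟨g, rfl⟩ := isConj_iff.1 ha
    obtain ⟨g', rfl⟩ := isConj_iff.1 hb
    have h1 : orderOf (tG KDone.mGroup KDone.mRep * ((g⁻¹ * g') * tG KDone.mGroup KDone.mRep * (g⁻¹ * g')⁻¹)) ≤ 6 :=
      six Instance.mGroup Instance.mRep Instance.mLat InstanceFinal.mOrbit Instance.mTrans
        InstanceFinal.mExtra.order_le (g⁻¹ * g')
    have h2 := orderOf_conj' g (tG KDone.mGroup KDone.mRep * ((g⁻¹ * g') * tG KDone.mGroup KDone.mRep * (g⁻¹ * g')⁻¹))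
    have h3 : g * (tG KDone.mGroup KDone.mRep * ((g⁻¹ * g') * tG KDone.mGroup KDone.mRep * (g⁻¹ * g')⁻¹)) * g⁻¹ =
        g * tG KDone.mGroup KDone.mRep * g⁻¹ * (g' * tG KDone.mGroup KDone.mRep * g'⁻¹) := by group
    rw [h3, hab] at h2
    omega
  · -- the fifth power
    obtain ⟨c, hc'⟩ := MFive.exists_conj_of_conj h h13 (by decide) (x := x) (y := x ^ 5) (s := H131.T5M13D.n) hx13
      (by rw [← pow_mul, mul_comm, pow_mul, hx13, one_pow]) (by
        rw [map_pow, hxs]
        exact H131.T5M13D.ns)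
    refine ⟨c, ?_⟩
    have h1 := congrArg Subtype.val hc'
    simpa only [Subgroup.coe_mul, InvMemClass.coe_inv, SubmonoidClass.coe_pow] using h1

/-- **`13 ^ 3` does not divide `|C(y)|`** for `y` commuting with no conjugate of `z`. -/
theorem not_cube {y : MG} (hy : orderOf y = 13) (he : ¬ Ev y) : ¬ 13 ^ 3 ∣ Nat.card ↥(centralizer ({y} : Set MG)) := by
  have := finite
  intro hd
  apply he
  have h13 : Nat.Prime 13 := by norm_num
  have : Fact (Nat.Prime 13) := ⟨h13⟩
  obtain ⟨x, t, Q, hD⟩ := model_D'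
  obtain ⟨R, W, hr⟩ := exists_RW hD
  by_cases hab : ∀ a ∈ R, ∀ b ∈ R, a * b = b * a
  · exact (Ab.false hD ⟨hr, hab⟩).elim
  push Not at hab
  have hcu : Cu 13 R x := ⟨hr.card, hD.hyp.hx, hr.mem, hr.cen, hab⟩
  let y' : ↥(centralizer ({y} : Set MG)) := ⟨y, mem_centralizer_singleton_iff.2 rfl⟩
  obtain ⟨K, hK, hyK⟩ := Sylow.exists_subgroup_card_pow_prime_le 13 hd (zpowers y') (n := 1)
    (by rw [Nat.card_zpowers, ← Subgroup.orderOf_coe, pow_one]; exact hy) (by norm_num)
  set K' : Subgroup MG := K.map (centralizer ({y} : Set MG)).subtype with hK'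
  have hK'c : Nat.card K' = 13 ^ 3 := by rw [hK', card_map_of_injective (subtype_injective _), hK]
  obtain ⟨g, hg⟩ := exists_conj_le hr.card hD.hyp.h4 (IsPGroup.of_card hK'c)
  have hKR : K'.map (MulAut.conj g).toMonoidHom = R := by
    refine Subgroup.eq_of_le_of_card_ge ?_ ?_
    · rintro _ ⟨a, ha, rfl⟩
      exact hg a ha
    · rw [card_map_of_injective (MulAut.conj g).injective, hK'c, hr.card]
  have hyK' : y ∈ K' := ⟨y', hyK (mem_zpowers y'), rfl⟩
  have hcen : ∀ r ∈ R, r * (g * y * g⁻¹) = (g * y * g⁻¹) * r := by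
    intro r hrR
    rw [← hKR] at hrR
    obtain ⟨a, ⟨b, hb, rfl⟩, rfl⟩ := hrR
    have h1 : (b : MG) * y = y * b := mem_centralizer_singleton_iff.1 b.2
    show g * (b : MG) * g⁻¹ * (g * y * g⁻¹) = (g * y * g⁻¹) * (g * (b : MG) * g⁻¹)
    calc g * (b : MG) * g⁻¹ * (g * y * g⁻¹) = g * ((b : MG) * y) * g⁻¹ := by group
      _ = g * (y * b) * g⁻¹ := by rw [h1]
      _ = _ := by group
  have hmem := hcu.mem_of_central (hg y hyK') hcen
  obtain ⟨i, hi⟩ := mem_zpowers_iff.1 hmem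
  have hz : zz * (g * y * g⁻¹) = (g * y * g⁻¹) * zz := by
    rw [← hi]
    exact ((show Commute (zz : MG) x from hD.hyp.zx).zpow_right i).eq
  refine ⟨g⁻¹, ?_⟩
  calc g⁻¹ * zz * g⁻¹⁻¹ * y = g⁻¹ * (zz * (g * y * g⁻¹)) * g := by group
    _ = g⁻¹ * ((g * y * g⁻¹) * zz) * g := by rw [hz]
    _ = _ := by group

end D

/-! ### The primes 11, 17, ... -/

/-- No element of order 11 commutes with an element of order `q`. -/
theorem not_eleven_of {q m : ℕ} (hq : q.Prime) (hq11 : 11 ≠ q) (hq0 : ¬ q ∣ 11 * 95040)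
    (h1q : ∀ i, 1 ≤ i → i ≤ 2 → ¬ q ∣ 11 ^ i - 1)
    (hm : ¬ q ^ (m + 1) ∣ 808017424794512875886459904961710757005754368000000000)
    (h3q : ∀ i, 1 ≤ i → i ≤ m → ¬ 11 ∣ q ^ i - 1) {x : MG} (hx : orderOf x = q) :
    ¬ 11 ∣ Nat.card ↥(centralizer ({x} : Set MG)) := by
  have := finite
  have h11 : Fact (Nat.Prime 11) := ⟨by norm_num⟩
  have h13 : Fact q.Prime := ⟨hq⟩
  intro hd
  obtain ⟨y, hy⟩ := exists_prime_orderOf_dvd_card' 11 hd
  have hyo : orderOf (y : MG) = 11 := by rw [Subgroup.orderOf_coe, hy]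
  have hyx : (y : MG) * x = x * y := mem_centralizer_singleton_iff.1 y.2
  generalize (y : MG) = b at hyo hyx
  have key : ∀ w : MG, orderOf w = 11 → Ev w → ¬ q ∣ Nat.card ↥(centralizer ({w} : Set MG)) := by
    intro w hw hew
    rw [H199.AbMon.eleven hw hew]
    exact hq0
  have h13b : q ∣ Nat.card ↥(centralizer ({b} : Set MG)) := by
    rw [← hx]
    exact Subgroup.orderOf_dvd_natCard _ (mem_centralizer_singleton_iff.2 hyx.symm)
  by_cases hev : Ev b
  · exact key b hyo hev h13b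
  -- `C(b)` is solvable
  have hsol : Group.IsSolvable ↥(centralizer ({b} : Set MG)) := by
    by_contra hcon
    have ho : ¬ Odd (Nat.card ↥(centralizer ({b} : Set MG))) := fun ho => hcon (S0205.result ho)
    rw [Nat.not_odd_iff_even] at ho
    have : Fact (Nat.Prime 2) := ⟨Nat.prime_two⟩
    obtain ⟨v, hv⟩ := exists_prime_orderOf_dvd_card' 2 ho.two_dvd
    have hv' : orderOf (v : MG) = 2 := by rw [Subgroup.orderOf_coe, hv]
    exact hev (BpSpor.MBigEleven.comm_z hyo hv' (mem_centralizer_singleton_iff.1 v.2).symm)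
  -- a Sylow subgroup of `MG`
  have hbp : IsPGroup 11 ↥(zpowers b) := IsPGroup.of_card (n := 1) (by rw [Nat.card_zpowers, hyo, pow_one])
  obtain ⟨P, hP⟩ := hbp.exists_le_sylow
  have hPc : Nat.card ↥(P : Subgroup MG) = 11 ^ 2 := by
    obtain ⟨j, hj⟩ := IsPGroup.iff_card.1 P.2
    have h1 : 11 ^ 2 ∣ Nat.card ↥(P : Subgroup MG) := P.pow_dvd_card_of_pow_dvd_card (by rw [card_M]; norm_num)
    have h2 : ¬ 11 ^ 3 ∣ Nat.card ↥(P : Subgroup MG) := fun h => by
      have h3 := h.trans (Subgroup.card_subgroup_dvd_card _)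
      rw [card_M] at h3
      revert h3
      norm_num
    rw [hj] at h1 h2 ⊢
    congr 1
    refine le_antisymm ?_ ((Nat.pow_dvd_pow_iff_le_right (by norm_num)).1 h1)
    by_contra hcon
    exact h2 (pow_dvd_pow 11 (not_le.1 hcon))
  have hPab : ∀ u v : ↥(P : Subgroup MG), u * v = v * u :=
    (IsPGroup.isMulCommutative_of_card_eq_prime_sq hPc).is_comm.comm
  have hbP : b ∈ (P : Subgroup MG) := hP (Subgroup.mem_zpowers b)
  obtain ⟨w0, hw0, hew0⟩ := exists_ev (p := 11) (by norm_num) (by norm_num)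
  obtain ⟨a, ha⟩ := J2Type.SylowFive.exists_conj_mem_sylow P (y := w0) (n := 1) (by rw [hw0, pow_one])
  have hew : Ev (a * w0 * a⁻¹) := hew0.conj a
  have hwo : orderOf (a * w0 * a⁻¹) = 11 := by
    rw [← hw0]
    exact orderOf_injective (MulAut.conj a).toMonoidHom (MulAut.conj a).injective w0
  generalize a * w0 * a⁻¹ = w at ha hew hwo
  have hwb : w * b = b * w := congrArg Subtype.val (hPab ⟨w, ha⟩ ⟨b, hbP⟩)
  let w' : ↥(centralizer ({b} : Set MG)) := ⟨w, mem_centralizer_singleton_iff.2 hwb⟩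
  obtain ⟨T, s, hs, hT, hTi, hTs⟩ := exists_commuting (p := 11) (q := q) (n := 2) (m := m) hsol hq11 h13b
    (fun h => by
      have h3 := h.trans (Subgroup.card_subgroup_dvd_card _)
      rw [card_M] at h3
      revert h3
      norm_num) h1q
    (fun h => by
      have h3 := h.trans (Subgroup.card_subgroup_dvd_card _)
      rw [card_M] at h3
      exact hm h3) h3q
  obtain ⟨c, hc⟩ := J2Type.SylowFive.exists_conj_mem_sylow (hT.toSylow hTi) (y := w') (n := 1)
    (by rw [Subgroup.orderOf_mk, hwo, pow_one])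
  have hc' : c * w' * c⁻¹ ∈ T := by
    rw [← hT.toSylow_coe hTi]
    exact hc
  have h1 : ((c : MG) * w * (c : MG)⁻¹) * (s : MG) = s * ((c : MG) * w * (c : MG)⁻¹) := congrArg Subtype.val (hTs _ hc')
  refine key ((c : MG) * w * (c : MG)⁻¹) ?_ (hew.conj _) ?_
  · rw [← hwo]
    exact orderOf_injective (MulAut.conj (c : MG)).toMonoidHom (MulAut.conj (c : MG)).injective w
  · rw [← hs, ← Subgroup.orderOf_coe]
    exact Subgroup.orderOf_dvd_natCard _ (mem_centralizer_singleton_iff.2 h1.symm)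

/-- **No element of order 11 commutes with an element of order 13.** -/
theorem not_eleven {x : MG} (hx : orderOf x = 13) : ¬ 11 ∣ Nat.card ↥(centralizer ({x} : Set MG)) :=
  not_eleven_of (m := 3) (by norm_num) (by norm_num) (by norm_num)
    (by intro i h1 h2; interval_cases i <;> norm_num) (by norm_num)
    (by intro i h1 h2; interval_cases i <;> norm_num) hx

/-- **No element of order 11 commutes with an element of order 7.** -/
theorem not_eleven_seven {x : MG} (hx : orderOf x = 7) : ¬ 11 ∣ Nat.card ↥(centralizer ({x} : Set MG)) :=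
  not_eleven_of (m := 6) (by norm_num) (by norm_num) (by norm_num)
    (by intro i h1 h2; interval_cases i <;> norm_num) (by norm_num)
    (by intro i h1 h2; interval_cases i <;> norm_num) hx

/-- the primes at least 17 -/
theorem not_big (hK : H995.CopEngine.AllKnown.{0}) (hS : H715.Mon.Grp.SThree.{0}) {x : MG} (hx : orderOf x = 13) {r : ℕ}
    (hr : r ∈ [17, 19, 23, 29, 31, 41, 47, 59, 71]) : ¬ r ∣ Nat.card ↥(centralizer ({x} : Set MG)) := by
  have := finite
  intro hd
  have h3 : H241.NH.Three.{0} := H241.NH.three_of fun X hX hC => hS _ X hX hC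
  have hrp : r.Prime := by
    simp only [List.mem_cons, List.not_mem_nil, or_false] at hr
    rcases hr with rfl | rfl | rfl | rfl | rfl | rfl | rfl | rfl | rfl <;> norm_num
  have : Fact r.Prime := ⟨hrp⟩
  obtain ⟨y, hy⟩ := exists_prime_orderOf_dvd_card' r hd
  have hyo : orderOf (y : MG) = r := by rw [Subgroup.orderOf_coe, hy]
  have hyx : (y : MG) * x = x * y := mem_centralizer_singleton_iff.1 y.2
  generalize (y : MG) = b at hyo hyx
  have h13b : 13 ∣ Nat.card ↥(centralizer ({b} : Set MG)) := by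
    rw [← hx]
    exact Subgroup.orderOf_dvd_natCard _ (mem_centralizer_singleton_iff.2 hyx.symm)
  simp only [List.mem_cons, List.not_mem_nil, or_false] at hr
  rcases hr with rfl | rfl | rfl | rfl | rfl | rfl | rfl | rfl | rfl
  · have h1 : Nat.card ↥(centralizer ({b} : Set MG)) = 168 * 17 := H715.Mon.Exact.card17 hS hyo
    rw [h1] at h13b
    revert h13b
    norm_num
  · have h1 : Nat.card ↥(centralizer ({b} : Set MG)) = 60 * 19 := H715.Mon.Exact.card19' hS hyo
    rw [h1] at h13b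
    revert h13b
    norm_num
  · have h1 : Nat.card ↥(centralizer ({b} : Set MG)) = 24 * 23 := H715.Mon.Exact.card23 hS hyo
    rw [h1] at h13b
    revert h13b
    norm_num
  · rw [H626.LD.TwentyNine.card_cent hyo] at h13b
    revert h13b
    norm_num
  · have h1 : Nat.card ↥(centralizer ({b} : Set MG)) = 6 * 31 := H715.Mon.Cent.card31 hS hyo
    rw [h1] at h13b
    revert h13b
    norm_num
  · rw [H979.OreM.cent_41 hK h3 hyo] at h13b
    revert h13b
    norm_num
  · have h1 : Nat.card ↥(centralizer ({b} : Set MG)) = 47 * 2 := H436.MonLoc.card47 hK hyo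
    rw [h1] at h13b
    revert h13b
    norm_num
  · rw [(H58.Cop.M.norm_fiftynine hK hyo).1] at h13b
    revert h13b
    norm_num
  · rw [H979.OreM.cent_71 hK h3 hyo] at h13b
    revert h13b
    norm_num

theorem reduce {n p a b M : ℕ} (hp : p.Prime) (hn : n ≠ 0) (h : n ∣ p ^ a * M) (hb : ¬ p ^ (b + 1) ∣ n) :
    n ∣ p ^ b * M := by
  obtain ⟨c, m, hm, rfl⟩ := Nat.exists_eq_pow_mul_and_not_dvd hn p hp.ne_one
  have hc : c ≤ b := by
    by_contra hcon
    exact hb ((pow_dvd_pow p (by omega)).trans (dvd_mul_right _ _))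
  have h1 : m ∣ M := by
    have h2 : m ∣ p ^ a * M := (dvd_mul_left _ _).trans h
    exact ((((Nat.Prime.coprime_iff_not_dvd hp).2 hm).symm).pow_right a).dvd_of_dvd_mul_left h2
  exact mul_dvd_mul (pow_dvd_pow p hc) h1

/-- **The order of `C(x)`.** -/
theorem card_dvd (hK : H995.CopEngine.AllKnown.{0}) (hS : H715.Mon.Grp.SThree.{0}) {x : MG} (hx : orderOf x = 13)
    (h7 : ¬ 7 ∣ Nat.card ↥(centralizer ({x} : Set MG))) :
    Nat.card ↥(centralizer ({x} : Set MG)) ∣ 13 ^ 2 * (2 ^ 4 * (5 ^ 2 * 3 ^ 20)) ∨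
      Nat.card ↥(centralizer ({x} : Set MG)) ∣ 13 ^ 3 * (2 ^ 3 * (5 ^ 2 * 3 ^ 20)) := by
  have := finite
  have g0 : Nat.card ↥(centralizer ({x} : Set MG)) ∣ 7 ^ 6 * (11 ^ 2 * (17 ^ 1 * (19 ^ 1 * (23 ^ 1 * (29 ^ 1 * (31 ^ 1 *
      (41 ^ 1 * (47 ^ 1 * (59 ^ 1 * (71 ^ 1 * (5 ^ 9 * (2 ^ 46 * (13 ^ 3 * 3 ^ 20))))))))))))) := by
    have h1 := Subgroup.card_subgroup_dvd_card (centralizer ({x} : Set MG))
    rw [card_M] at h1
    exact h1.trans (by norm_num)
  have hn0 : Nat.card ↥(centralizer ({x} : Set MG)) ≠ 0 := Nat.card_pos.ne'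
  have hb := fun r hr => not_big hK hS hx (r := r) hr
  have g1 := H199.AbTool.dvd_of_not_dvd (by norm_num) h7 g0
  have g2 := H199.AbTool.dvd_of_not_dvd (by norm_num) (not_eleven hx) g1
  have g3 := H199.AbTool.dvd_of_not_dvd (by norm_num) (hb 17 (by simp)) g2
  have g4 := H199.AbTool.dvd_of_not_dvd (by norm_num) (hb 19 (by simp)) g3
  have g5 := H199.AbTool.dvd_of_not_dvd (by norm_num) (hb 23 (by simp)) g4
  have g6 := H199.AbTool.dvd_of_not_dvd (by norm_num) (hb 29 (by simp)) g5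
  have g7 := H199.AbTool.dvd_of_not_dvd (by norm_num) (hb 31 (by simp)) g6
  have g8 := H199.AbTool.dvd_of_not_dvd (by norm_num) (hb 41 (by simp)) g7
  have g9 := H199.AbTool.dvd_of_not_dvd (by norm_num) (hb 47 (by simp)) g8
  have g10 := H199.AbTool.dvd_of_not_dvd (by norm_num) (hb 59 (by simp)) g9
  have g11 := H199.AbTool.dvd_of_not_dvd (by norm_num) (hb 71 (by simp)) g10
  have g12 := reduce (b := 2) Nat.prime_five hn0 g11 (not_five hx)
  rw [show 5 ^ 2 * (2 ^ 46 * (13 ^ 3 * 3 ^ 20)) = 2 ^ 46 * (13 ^ 3 * (5 ^ 2 * 3 ^ 20)) by norm_num] at g12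
  by_cases he : Ev x
  · right
    have g13 := reduce (b := 3) Nat.prime_two hn0 g12 (two_ev hx he)
    rwa [show 2 ^ 3 * (13 ^ 3 * (5 ^ 2 * 3 ^ 20)) = 13 ^ 3 * (2 ^ 3 * (5 ^ 2 * 3 ^ 20)) by norm_num] at g13
  · left
    have g13 := reduce (b := 4) Nat.prime_two hn0 g12 (two_bad hx he)
    rw [show 2 ^ 4 * (13 ^ 3 * (5 ^ 2 * 3 ^ 20)) = 13 ^ 3 * (2 ^ 4 * (5 ^ 2 * 3 ^ 20)) by norm_num] at g13
    exact reduce (b := 2) (by norm_num) hn0 g13 (not_cube hx he)

/-- **Elements of order 13 of the Monster.** -/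
theorem card_le (hK : H995.CopEngine.AllKnown.{0}) (hS : H715.Mon.Grp.SThree.{0}) {x : MG} (hx : orderOf x = 13)
    (h7 : ¬ 7 ∣ Nat.card ↥(centralizer ({x} : Set MG))) :
    Nat.card ↥(centralizer ({x} : Set MG)) ≤ 2 * 10 ^ 15 := by
  rcases card_dvd hK hS hx h7 with h | h
  · exact (Nat.le_of_dvd (by norm_num) h).trans (by norm_num)
  · exact (Nat.le_of_dvd (by norm_num) h).trans (by norm_num)

end Cfsg.Agent.H58.MonThirteen
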